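import Groth.Agent.Lib.FunFld.PlaneCurve.Diff
import Groth.Agent.Lib.FunFld.Hasse.Wdiv
import Groth.Agent.Lib.FunFld.Hasse.Family
import Groth.Agent.Lib.FunFld.Res.SepRes
import Groth.Agent.Lib.FunFld.LinSys.PlaneGenus
import Mathlib.LinearAlgebra.Matrix.NonsingularInverse

/-! The adjoint divisor of a plane map is a projective invariant. -/

namespace Groth.Agent.Lib.FunFld.PlaneCurve.Adjoint

open WithZero
open Groth.Agent.Lib.FunFld Groth.Agent.Lib.FunFld.Hasse

universe u v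
variable {k : Type u} [Field k] {K : Type v} [Field K] [Algebra k K]

local notation "Pl" => _root_.FunFld.Place k K

/-- A relation between differentials passes to expansions. -/
theorem D_of_smul_eq (ψ : K →ₐ[k] LaurentSeries k) {a b x x' : K}
    (h : a • KaehlerDifferential.D k K x = b • KaehlerDifferential.D k K x') :
    ψ a * LocRes.D k (ψ x) = ψ b * LocRes.D k (ψ x') := by
  let _ := ψ.toRingHom.toAlgebra
  have := LocRes.isScalarTower_exp ψ
  have h1 := congrArg (LocRes.dExp ψ).liftKaehlerDifferential h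
  rw [map_smul, map_smul, Derivation.liftKaehlerDifferential_comp_D,
    Derivation.liftKaehlerDifferential_comp_D] at h1
  exact h1

theorem ordDiff_mul {P : Pl} {ψ : K →ₐ[k] LaurentSeries k} (hψ : LocRes.IsExpansionAt P.1 ψ)
    {a x : K} (ha : a ≠ 0) (hD : LocRes.D k (ψ x) ≠ 0) :
    LocRes.ordDiff ψ a x = P.ord a + LocRes.ordDiff ψ 1 x := by
  rw [LocRes.ordDiff, LocRes.ordDiff, LocRes.vDiff, LocRes.vDiff, map_one, one_mul, map_mul,
    log_mul ((Valuation.ne_zero_iff _).mpr ((map_ne_zero ψ).mpr ha)) ((Valuation.ne_zero_iff _).mpr hD),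
    hψ.1, _root_.FunFld.Place.ord]
  ring

theorem divDiff_eq [IsAlgClosed k] (hK : FunFld.IsFunctionField k K)
    (Φ : Pl → (K →ₐ[k] LaurentSeries k)) (hΦ : ∀ P : Pl, LocRes.IsExpansionAt P.1 (Φ P))
    {x a : K} (hx : KaehlerDifferential.D k K x ≠ 0) (ha : a ≠ 0) (P : Pl) :
    _root_.FunFld.divDiff Φ a x P = LocRes.ordDiff (Φ P) a x := by
  have hsep := Separable.isSep_of_D_ne_zero hK (Separable.exists_isSep hK) hx
  obtain ⟨H, hH⟩ := Family.exists_hasse hK (Separable.transcendental_of_D_ne_zero hK hx) hsep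
  have hfin : (Function.support fun P : Pl => LocRes.ordDiff (Φ P) a x).Finite := by
    refine ((Degree.finite_support_ord hK a).union (Hasse.Diff.finite_ordDiff hK Φ hΦ hH)).subset
      fun Q hQ => ?_
    rw [Function.mem_support, ordDiff_mul (hΦ Q) ha (Hasse.Diff.D_ne_zero hK (hΦ Q) hH)] at hQ
    simp only [Set.mem_union, Function.mem_support]
    by_contra hcon
    simp only [not_or, not_not] at hcon
    omega
  rw [_root_.FunFld.divDiff, dif_pos hfin]
  rfl

theorem val_le_of_combo (P : Pl) {n : ℕ} (a : Fin n → k) (w : Fin n → K)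
    {b : WithZero (Multiplicative ℤ)} (h : ∀ j, P.1 (w j) ≤ b) :
    P.1 (∑ j, algebraMap k K (a j) * w j) ≤ b :=
  P.1.map_sum_le fun j _ => by
    rw [map_mul]; exact (mul_le_mul' (P.2.1 _) (h j)).trans_eq (one_mul _)

theorem exp_mapDiv_one (hK : FunFld.IsFunctionField k K) (x y : K) (P : Pl) :
    (∀ i, P.1 (![(1 : K), x, y] i) ≤ exp (_root_.FunFld.mapDiv k ![(1 : K), x, y] P)) ∧
      ∃ i, P.1 (![(1 : K), x, y] i) = exp (_root_.FunFld.mapDiv k ![(1 : K), x, y] P) := by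
  obtain ⟨j, hj⟩ := LinSys.Chart.exists_isMax (φ := ![(1 : K), x, y]) P ⟨0, by simp⟩
  have he : P.1 (![(1 : K), x, y] j) = exp (_root_.FunFld.mapDiv k ![(1 : K), x, y] P) := by
    rw [LinSys.PlaneGenus.mapDiv_of_isMax hK hj, Place.val_eq_exp P hj.1]
  exact ⟨fun i => he ▸ hj.2 i, j, he⟩

theorem mapDiv_change (hK : FunFld.IsFunctionField k K) (x y : K)
    (A : Matrix (Fin 3) (Fin 3) k) (hA : A.det ≠ 0) (u : Fin 3 → K)
    (hu : ∀ i, ∑ j, algebraMap k K (A i j) * u j = ![(1 : K), x, y] i) (hu0 : u 0 ≠ 0) (P : Pl) :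
    _root_.FunFld.mapDiv k ![(1 : K), x, y] P =
      _root_.FunFld.mapDiv k ![(1 : K), u 1 / u 0, u 2 / u 0] P - P.ord (u 0) := by
  have hinv : ∀ i, u i = ∑ j, algebraMap k K (A⁻¹ i j) * ![(1 : K), x, y] j := fun i => by
    have h := A.nonsing_inv_mul (Ne.isUnit hA)
    simp only [← hu, Finset.mul_sum]
    rw [Finset.sum_comm]
    simp only [← mul_assoc, ← map_mul, ← Finset.sum_mul, ← map_sum, ← Matrix.mul_apply, h]
    simp [Matrix.one_apply]
  have hw : ∀ i, u 0 * ![(1 : K), u 1 / u 0, u 2 / u 0] i = u i := fun i => by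
    fin_cases i <;> simp <;> field_simp
  obtain ⟨h1, i, h2⟩ := exp_mapDiv_one hK x y P
  obtain ⟨h1', i', h2'⟩ := exp_mapDiv_one hK (u 1 / u 0) (u 2 / u 0) P
  set d := _root_.FunFld.mapDiv k ![(1 : K), x, y] P
  set d' := _root_.FunFld.mapDiv k ![(1 : K), u 1 / u 0, u 2 / u 0] P
  have hle : ∀ l, P.1 (u l) ≤ exp (d' - P.ord (u 0)) := fun l => by
    rw [← hw, map_mul, Place.val_eq_exp P hu0, sub_eq_neg_add, exp_add]
    exact mul_le_mul_right (h1' l) _
  refine le_antisymm (exp_le_exp.mp ?_) (exp_le_exp.mp ?_)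
  · rw [← h2, ← hu i]; exact val_le_of_combo P _ _ hle
  · rw [show exp (d' - P.ord (u 0)) = P.1 (u i') by
      conv_rhs => rw [← hw, map_mul, h2', Place.val_eq_exp P hu0, ← exp_add]
      rw [sub_eq_neg_add]]
    rw [hinv i']; exact val_le_of_combo P _ _ h1

/-- The adjoint divisor is unchanged by a change of coordinates. -/
theorem invariant [IsAlgClosed k] (hK : FunFld.IsFunctionField k K)
    (f : MvPolynomial (Fin 3) k) (e : ℕ) (hf : f.IsHomogeneous e)
    (x y : K) (hfxy : MvPolynomial.aeval ![(1 : K), x, y] f = 0)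
    (hdx : KaehlerDifferential.D k K x ≠ 0)
    (he : (_root_.FunFld.mapDiv k ![(1 : K), x, y]).deg = e)
    (A : Matrix (Fin 3) (Fin 3) k) (hA : A.det ≠ 0)
    (u : Fin 3 → K) (hu : ∀ i, ∑ j, algebraMap k K (A i j) * u j = ![(1 : K), x, y] i)
    (hu0 : u 0 ≠ 0)
    (hfy : MvPolynomial.aeval ![(1 : K), x, y] (MvPolynomial.pderiv 2 f) ≠ 0)
    (hfy' : MvPolynomial.aeval ![(1 : K), u 1 / u 0, u 2 / u 0]
      (MvPolynomial.pderiv 2 (MvPolynomial.aeval (Diff.sub A) f)) ≠ 0)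
    (Φ : Pl → (K →ₐ[k] LaurentSeries k)) (hΦ : ∀ P : Pl, LocRes.IsExpansionAt P.1 (Φ P)) :
    ((_root_.FunFld.mapDiv k ![(1 : K), x, y]).deg - 3) • _root_.FunFld.mapDiv k ![(1 : K), x, y] -
        _root_.FunFld.divDiff Φ (MvPolynomial.aeval ![(1 : K), x, y] (MvPolynomial.pderiv 2 f))⁻¹ x =
      ((_root_.FunFld.mapDiv k ![(1 : K), u 1 / u 0, u 2 / u 0]).deg - 3) •
          _root_.FunFld.mapDiv k ![(1 : K), u 1 / u 0, u 2 / u 0] -
        _root_.FunFld.divDiff Φ (MvPolynomial.aeval ![(1 : K), u 1 / u 0, u 2 / u 0]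
          (MvPolynomial.pderiv 2 (MvPolynomial.aeval (Diff.sub A) f)))⁻¹ (u 1 / u 0) := by
  have hch := Diff.change f e hf x y hfxy A u hu hu0 hfy hfy'
  set g := MvPolynomial.aeval ![(1 : K), x, y] (MvPolynomial.pderiv 2 f)
  set g' := MvPolynomial.aeval ![(1 : K), u 1 / u 0, u 2 / u 0]
    (MvPolynomial.pderiv 2 (MvPolynomial.aeval (Diff.sub A) f))
  have hdx' : KaehlerDifferential.D k K (u 1 / u 0) ≠ 0 := fun h => by
    rw [h, smul_zero, smul_eq_zero] at hch
    exact hch.elim (inv_ne_zero hfy) hdx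
  have hdeg : (_root_.FunFld.mapDiv k ![(1 : K), u 1 / u 0, u 2 / u 0]).deg = e := by
    have : _root_.FunFld.mapDiv k ![(1 : K), u 1 / u 0, u 2 / u 0] =
        _root_.FunFld.mapDiv k ![(1 : K), x, y] + _root_.FunFld.div k (u 0) :=
      Finsupp.ext fun P => by
        rw [Finsupp.add_apply, Degree.div_apply hK, mapDiv_change hK x y A hA u hu hu0]; ring
    rw [this, Degree.deg_add, he, Degree.deg_div hK, add_zero]
  rw [he, hdeg]
  refine Finsupp.ext fun P => ?_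
  simp only [Finsupp.sub_apply, Finsupp.smul_apply, smul_eq_mul]
  rw [divDiff_eq hK Φ hΦ hdx (inv_ne_zero hfy), divDiff_eq hK Φ hΦ hdx' (inv_ne_zero hfy'),
    mapDiv_change hK x y A hA u hu hu0]
  have hd : algebraMap k K A.det ≠ 0 := by simpa using hA
  have hz : (u 0)⁻¹ ^ ((e : ℤ) - 3) ≠ 0 := zpow_ne_zero _ (inv_ne_zero hu0)
  have hD' : LocRes.D k (Φ P (u 1 / u 0)) ≠ 0 :=
    Res.SepRes.D_ne_zero hK (Separable.exists_isSep hK) (hΦ P) hdx'
  have key : LocRes.ordDiff (Φ P) g⁻¹ x =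
      LocRes.ordDiff (Φ P) (algebraMap k K A.det * (u 0)⁻¹ ^ ((e : ℤ) - 3) * g'⁻¹) (u 1 / u 0) := by
    simp only [LocRes.ordDiff, LocRes.vDiff]
    rw [D_of_smul_eq (Φ P) hch]
  rw [key, ordDiff_mul (hΦ P) (mul_ne_zero (mul_ne_zero hd hz) (inv_ne_zero hfy')) hD',
    ordDiff_mul (hΦ P) (inv_ne_zero hfy') hD', Place.ord_mul P (mul_ne_zero hd hz) (inv_ne_zero hfy'),
    Place.ord_mul P hd hz, Place.ord_algebraMap, Place.ord_zpow, Place.ord_inv]
  ring

end Groth.Agent.Lib.FunFld.PlaneCurve.Adjoint
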