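import Groth.Agent.Lib.FunFld.PlaneCurve.Adjoint
import Groth.Agent.Lib.FunFld.Approx
import Mathlib.Algebra.Module.Submodule.Union
import Mathlib.FieldTheory.PrimitiveElement

/-! Separating elements, primitive elements, and coordinate rings over the line. -/

namespace Groth.Agent.Lib.FunFld.PlaneCurve.Generators

open WithZero IntermediateField
open Groth.Agent.Lib.FunFld Groth.Agent.Lib.FunFld.Hasse

universe u v
variable {k : Type u} [Field k] {K : Type v} [Field K] [Algebra k K]

local notation "Pl" => _root_.FunFld.Place k K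

theorem exists_D_ne_zero [IsAlgClosed k] (hK : FunFld.IsFunctionField k K) :
    ∃ t : K, KaehlerDifferential.D k K t ≠ 0 := by
  obtain ⟨P⟩ := Riemann.nonempty_place hK
  obtain ⟨t, ψ, Ht, -, -, hψt, -⟩ := Wdiv.exists_local hK P
  refine ⟨t, fun h0 => ?_⟩
  have h1 := Res.SepRes.D_eq_zero_of_kaehler ψ h0
  have h2 : (LocRes.D k (ψ t)).coeff 0 = 0 := by rw [h1]; rfl
  rw [hψt, LocRes.D_coeff, zero_add, HahnSeries.coeff_single_same, one_smul] at h2
  exact one_ne_zero h2

/-- A generating space contains a separating element. -/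
theorem exists_separating [IsAlgClosed k] (hK : FunFld.IsFunctionField k K) (W : Set K)
    (hW : adjoin k W = ⊤) : ∃ x ∈ W, Algebra.IsSeparable (adjoin k ({x} : Set K)) K := by
  by_contra hcon
  simp only [not_exists, not_and] at hcon
  have hzero : ∀ w ∈ W, KaehlerDifferential.D k K w = 0 := fun w hw => by
    by_contra hne
    exact hcon w hw (Separable.isSep_of_D_ne_zero hK (Separable.exists_isSep hK) hne)
  obtain ⟨t, ht⟩ := exists_D_ne_zero hK
  refine ht ?_
  have ht' : t ∈ adjoin k W := hW ▸ mem_top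
  clear ht
  induction ht' using adjoin_induction with
  | mem z hz => exact hzero z hz
  | algebraMap c => exact Derivation.map_algebraMap _ c
  | add a b _ _ ha hb => rw [map_add, ha, hb, add_zero]
  | inv a _ ha => rw [Derivation.leibniz_inv, ha, smul_zero]
  | mul a b _ _ ha hb => rw [Derivation.leibniz, ha, hb, smul_zero, smul_zero, add_zero]

theorem transcendental_of_isSep (hK : FunFld.IsFunctionField k K) {x : K}
    (hx : Algebra.IsSeparable (adjoin k ({x} : Set K)) K) : Transcendental k x := by
  intro halg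
  obtain ⟨t, ht⟩ := Riemann.exists_transcendental hK
  have : Algebra.IsAlgebraic k (adjoin k ({x} : Set K)) :=
    IntermediateField.isAlgebraic_adjoin fun z hz => by
      rw [Set.mem_singleton_iff] at hz; exact hz ▸ halg.isIntegral
  have : Algebra.IsAlgebraic k K := Algebra.IsAlgebraic.trans k (adjoin k ({x} : Set K)) K
  exact ht (Algebra.IsAlgebraic.isAlgebraic t)

theorem finite_intermediate (hK : FunFld.IsFunctionField k K) {x : K}
    (hx : Algebra.IsSeparable (adjoin k ({x} : Set K)) K) :
    Finite (IntermediateField (adjoin k ({x} : Set K)) K) ∧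
      ∃ y, adjoin (adjoin k ({x} : Set K)) ({y} : Set K) = ⊤ := by
  have := Bound.finiteDimensional_adjoin_transcendental hK (transcendental_of_isSep hK hx)
  have h := Field.exists_primitive_element (adjoin k ({x} : Set K)) K
  exact ⟨Field.finite_intermediateField_of_exists_primitive_element _ _ h, h⟩

theorem pair_eq_top {x y : K} (h : adjoin (adjoin k ({x} : Set K)) ({y} : Set K) = ⊤) :
    adjoin k ({x, y} : Set K) = ⊤ := by
  rw [← adjoin_simple_adjoin_simple, h, restrictScalars_top]

/-- A generating space contains a primitive element over a separating member. -/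
theorem exists_pair [IsAlgClosed k] (hK : FunFld.IsFunctionField k K) (W : Submodule k K)
    (hW : adjoin k (W : Set K) = ⊤) {x : K} (hx : Algebra.IsSeparable (adjoin k ({x} : Set K)) K) :
    ∃ y ∈ W, adjoin k ({x, y} : Set K) = ⊤ := by
  set F := adjoin k ({x} : Set K)
  obtain ⟨hfin, -⟩ := finite_intermediate hK hx
  let p : {E : IntermediateField F K // E ≠ ⊤} → Submodule k W := fun E =>
    (((E.1.restrictScalars k).toSubalgebra.toSubmodule).comap W.subtype)
  obtain ⟨y, hy⟩ := Submodule.exists_forall_notMem_of_forall_ne_top p fun E htop => E.2 (by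
    have hle : adjoin k (W : Set K) ≤ E.1.restrictScalars k := adjoin_le_iff.mpr fun w hw => by
      have : (⟨w, hw⟩ : W) ∈ p E := htop ▸ Submodule.mem_top
      exact this
    refine restrictScalars_injective k ?_
    rw [restrictScalars_top]
    exact top_le_iff.mp (hW ▸ hle))
  refine ⟨y, y.2, pair_eq_top ?_⟩
  by_contra hne
  exact hy ⟨_, hne⟩ (mem_adjoin_simple_self F (y : K))

/-- All but finitely many places have `x - c` as a parameter. -/
theorem finite_ramified [IsAlgClosed k] (hK : FunFld.IsFunctionField k K) {x : K}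
    (hx : Algebra.IsSeparable (adjoin k ({x} : Set K)) K) :
    {P : Pl | ∀ c : k, P.1 (x - algebraMap k K c) ≠ exp (-1)}.Finite := by
  obtain ⟨H, hH⟩ := Family.exists_hasse hK (transcendental_of_isSep hK hx) hx
  obtain ⟨Φ, hΦ⟩ := Wdiv.exists_expansions hK
  refine ((Degree.finite_support_ord hK x).union (Hasse.Diff.finite_ordDiff hK Φ hΦ hH)).subset
    fun P hP => ?_
  simp only [Set.mem_union, Function.mem_support]
  by_contra hcon
  simp only [not_or, not_not] at hcon
  obtain ⟨hx0, hd⟩ := hcon
  obtain ⟨c, hc⟩ := Param.isDegOne hK P x ((Place.val_le_one_iff P).mpr hx0.ge)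
  set z := x - algebraMap k K c with hz
  have hz1 : P.1 z ≤ exp (-1) := by
    rw [Place.val_le_exp_iff]
    exact ((Place.val_lt_one_iff P).mp hc).imp id fun h => by omega
  have hz2 : P.1 z ≤ exp (-(2 : ℤ)) := by
    rcases eq_or_ne z 0 with h0 | h0
    · rw [h0, map_zero]; exact zero_le
    · have h1 := hP c
      rw [← hz, Place.val_eq_exp P h0, Ne, exp_inj] at h1
      rw [Place.val_eq_exp P h0, exp_le_exp] at hz1 ⊢
      omega
  have h3 := (Local.val_le_iff (hΦ P) 2).mp hz2
  have hDz : LocRes.D k (Φ P z) = LocRes.D k (Φ P x) := by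
    rw [hz, map_sub, map_sub, LocRes.map_algebraMap, LocRes.D_apply k (HahnSeries.C _),
      LocRes.derivative_C, sub_zero]
  have hne : LocRes.D k (Φ P x) ≠ 0 := Hasse.Diff.D_ne_zero hK (hΦ P) hH
  have h4 : Valued.v (LocRes.D k (Φ P x)) ≤ exp (-(1 : ℤ)) :=
    (LaurentSeries.valuation_le_iff_coeff_lt_eq_zero k).mpr fun m hm => by
      rw [← hDz, LocRes.D_coeff, h3 (m + 1) (by omega), smul_zero]
  rw [LocRes.ordDiff, LocRes.vDiff, map_one, one_mul, neg_eq_zero] at hd
  have h5 := exp_log ((Valuation.ne_zero_iff Valued.v).mpr hne)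
  rw [hd] at h5
  rw [← h5, exp_le_exp] at h4
  omega

/-- A primitive element with a parameter in `⟨1, x, y⟩` at every place. -/
theorem exists_parameter [IsAlgClosed k] (hK : FunFld.IsFunctionField k K) {x : K}
    (hx : Algebra.IsSeparable (adjoin k ({x} : Set K)) K) :
    ∃ y : K, adjoin k ({x, y} : Set K) = ⊤ ∧
      ∀ P : Pl, ∃ f ∈ Submodule.span k ({1, x, y} : Set K), P.1 f = exp (-1) := by
  classical
  set F := adjoin k ({x} : Set K)
  have htx := transcendental_of_isSep hK hx
  obtain ⟨hfin, w₀, hw₀⟩ := finite_intermediate hK hx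
  set S := (finite_ramified hK hx).toFinset
  have hconst : ∀ P : Pl, 0 ≤ P.ord x → ∃ c : k, P.1 (x - algebraMap k K c) < 1 := fun P h =>
    Param.isDegOne hK P x ((Place.val_le_one_iff P).mpr h)
  choose! cv hcv using hconst
  set C := (S.filter fun P => 0 ≤ P.ord x).image cv
  obtain ⟨c', hc'⟩ := Infinite.exists_notMem_finset C
  set N := ∑ P ∈ S, (2 - P.ord w₀).toNat
  set M := N * C.card + N
  have hsub : ∀ c : k, x - algebraMap k K c ≠ 0 := fun c h =>
    Bound.not_mem_range_of_transcendental htx ⟨c, (sub_eq_zero.mp h).symm⟩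
  set h := (∏ c ∈ C, (x - algebraMap k K c) ^ N) / (x - algebraMap k K c') ^ M with hh
  have hprod0 : ∏ c ∈ C, (x - algebraMap k K c) ^ N ≠ 0 :=
    Finset.prod_ne_zero_iff.mpr fun c _ => pow_ne_zero _ (hsub c)
  have hh0 : h ≠ 0 := div_ne_zero hprod0 (pow_ne_zero _ (hsub c'))
  have hxF : x ∈ F := mem_adjoin_simple_self k x
  have hhF : h ∈ F := div_mem (prod_mem fun c _ => pow_mem (sub_mem hxF (F.algebraMap_mem c)) _)
    (pow_mem (sub_mem hxF (F.algebraMap_mem c')) _)
  have hordp : ∀ (P : Pl) (T : Finset k), P.ord (∏ c ∈ T, (x - algebraMap k K c) ^ N) =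
      (N : ℤ) * ∑ c ∈ T, P.ord (x - algebraMap k K c) := by
    intro P T
    induction T using Finset.induction with
    | empty => simp
    | insert c T hc ih =>
      rw [Finset.prod_insert hc, Finset.sum_insert hc,
        Place.ord_mul P (pow_ne_zero _ (hsub c)) (Finset.prod_ne_zero_iff.mpr fun c _ => pow_ne_zero _ (hsub c)),
        Place.ord_pow, ih]
      ring
  have hord : ∀ P ∈ S, (N : ℤ) ≤ P.ord h := by
    intro P hP
    rw [hh, Place.ord_div P hprod0 (pow_ne_zero _ (hsub c')), Place.ord_pow, hordp]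
    rcases le_or_gt 0 (P.ord x) with hx0 | hx0
    · have h1 : ∀ c : k, 0 ≤ P.ord (x - algebraMap k K c) := fun c =>
        (Place.val_le_one_iff P).mp ((P.1.map_sub _ _).trans (max_le ((Place.val_le_one_iff P).mpr hx0) (P.2.1 c)))
      have h2 : P.ord (x - algebraMap k K c') = 0 := by
        by_contra hne
        have hlt : P.1 (x - algebraMap k K c') < 1 := (Place.val_lt_one_iff P).mpr (Or.inr (by
          have := h1 c'; omega))
        exact hc' (LinSys.Chart.const_unique P hlt (hcv P hx0) ▸
          Finset.mem_image_of_mem cv (Finset.mem_filter.mpr ⟨hP, hx0⟩))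
      have h3 : 1 ≤ ∑ c ∈ C, P.ord (x - algebraMap k K c) :=
        le_trans (((Place.val_lt_one_iff P).mp (hcv P hx0)).resolve_left (hsub _))
          (Finset.single_le_sum (f := fun c => P.ord (x - algebraMap k K c)) (fun c _ => h1 c)
            (Finset.mem_image_of_mem cv (Finset.mem_filter.mpr ⟨hP, hx0⟩)))
      rw [h2, mul_zero, sub_zero]
      exact le_mul_of_one_le_right (Int.natCast_nonneg _) h3
    · have h1 : ∀ c : k, P.ord (x - algebraMap k K c) = P.ord x := by
        intro c
        have h4 : P.1 (algebraMap k K c) < P.1 x := by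
          refine (P.2.1 c).trans_lt ?_
          rw [Place.val_eq_exp P (fun h0 => by rw [h0, Place.ord_zero] at hx0; omega), ← exp_zero,
            exp_lt_exp]
          omega
        rw [Place.ord_def, Place.ord_def, P.1.map_sub_eq_of_lt_left h4]
      simp only [h1, Finset.sum_const, nsmul_eq_mul, M]
      push_cast
      nlinarith
  set w := w₀ * h
  have hw : ∀ P ∈ S, P.1 w ≤ exp (-2) := by
    intro P hP
    rw [Place.val_le_exp_iff]
    rcases eq_or_ne w₀ 0 with h0 | h0
    · exact Or.inl (by simp [w, h0])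
    refine Or.inr ?_
    have h1 := hord P hP
    have h2 := Finset.single_le_sum (f := fun P : Pl => (2 - P.ord w₀).toNat)
      (fun _ _ => Nat.zero_le _) hP
    rw [Place.ord_mul P h0 hh0]
    omega
  obtain ⟨y₀, hy₀⟩ := Approx.exists_prescribed_ord S (fun _ => 1)
  have hy : ∀ (lam : k), ∀ P ∈ S, P.1 (y₀ + algebraMap k K lam * w) = exp (-1) := by
    intro lam P hP
    obtain ⟨h1, h2⟩ := hy₀ P hP
    have h3 : P.1 y₀ = exp (-1) := by rw [Place.val_eq_exp P h1, h2]
    rw [P.1.map_add_eq_of_lt_left, h3]
    rw [h3, map_mul]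
    exact ((mul_le_of_le_one_left' (P.2.1 lam)).trans (hw P hP)).trans_lt (by
      rw [exp_lt_exp]; norm_num)
  obtain ⟨lam, hlam⟩ : ∃ lam : k, adjoin F ({y₀ + algebraMap k K lam * w} : Set K) = ⊤ := by
    by_contra hcon
    simp only [not_exists] at hcon
    obtain ⟨a, b, hab, heq⟩ := Finite.exists_ne_map_eq_of_infinite
      (fun lam : k => adjoin F ({y₀ + algebraMap k K lam * w} : Set K))
    set E := adjoin F ({y₀ + algebraMap k K a * w} : Set K)
    have hd : algebraMap k K (a - b) ≠ 0 := by simpa [sub_eq_zero] using hab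
    have hkE : ∀ r : k, algebraMap k K r ∈ E := fun r =>
      E.algebraMap_mem (⟨algebraMap k K r, F.algebraMap_mem r⟩ : F)
    have hwE : w ∈ E := by
      have h1 := sub_mem (mem_adjoin_simple_self F (y₀ + algebraMap k K a * w))
        (heq ▸ mem_adjoin_simple_self F (y₀ + algebraMap k K b * w) :
          y₀ + algebraMap k K b * w ∈ E)
      rw [show y₀ + algebraMap k K a * w - (y₀ + algebraMap k K b * w) = algebraMap k K (a - b) * w by
        rw [map_sub]; ring] at h1
      have := mul_mem (inv_mem (hkE (a - b))) h1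
      rwa [← mul_assoc, inv_mul_cancel₀ hd, one_mul] at this
    have hwE' : w₀ ∈ E := by
      have := div_mem hwE (E.algebraMap_mem (⟨h, hhF⟩ : F))
      rwa [show algebraMap F K ⟨h, hhF⟩ = h from rfl, mul_div_cancel_right₀ _ hh0] at this
    exact hcon a (top_le_iff.mp (hw₀ ▸ adjoin_simple_le_iff.mpr hwE'))
  refine ⟨_, pair_eq_top hlam, fun P => ?_⟩
  by_cases hP : P ∈ S
  · exact ⟨_, Submodule.subset_span (by simp), hy lam P hP⟩
  · simp only [S, Set.Finite.mem_toFinset, Set.mem_ofPred_eq, not_forall, not_not] at hP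
    obtain ⟨c, hc⟩ := hP
    refine ⟨x - algebraMap k K c, sub_mem (Submodule.subset_span (by simp)) ?_, hc⟩
    rw [Algebra.algebraMap_eq_smul_one c]
    exact Submodule.smul_mem _ c (Submodule.subset_span (Set.mem_insert (1 : K) _))

end Groth.Agent.Lib.FunFld.PlaneCurve.Generators
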