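import Groth.Agent.Lib.FunFld.PlaneCurve.Local
import Mathlib.LinearAlgebra.Matrix.Rank

/-! Singular points and tangents of a plane curve; ranks. -/

namespace Groth.Agent.Lib.FunFld.PlaneCurve.Plane

open WithZero MvPolynomial
open Groth.Agent.Lib.FunFld Groth.Agent.Lib.FunFld.LinSys

universe u v
variable {k : Type u} [Field k] {K : Type v} [Field K] [Algebra k K]

local notation "Pl" => _root_.FunFld.Place k K

theorem rank_map_le {L L' : Type*} [Field L] [Field L'] (σ : L →+* L') {m n : Type*} [Fintype m]
    [Fintype n] (A : Matrix m n L) : (A.map σ).rank ≤ A.rank := by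
  classical
  let V := LinearMap.range A.mulVecLin
  let b : Module.Basis (Fin A.rank) L V := Module.finBasisOfFinrankEq L V rfl
  let B : Matrix m (Fin A.rank) L := Matrix.of fun i l => (b l : m → L) i
  let C : Matrix (Fin A.rank) n L :=
    Matrix.of fun l j => b.repr ⟨A.mulVecLin (Pi.single j 1), LinearMap.mem_range_self _ _⟩ l
  have h : A = B * C := by
    ext i j
    have h1 := congrArg (fun z : V => (z : m → L) i)
      (b.sum_repr ⟨A.mulVecLin (Pi.single j 1), LinearMap.mem_range_self _ _⟩)
    simp only [Submodule.coe_sum, Submodule.coe_smul, Finset.sum_apply, Pi.smul_apply, smul_eq_mul,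
      Matrix.mulVecLin_apply, Matrix.mulVec_single_one] at h1
    simp only [Matrix.mul_apply, B, C, Matrix.of_apply]
    exact h1.symm.trans (Finset.sum_congr rfl fun l _ => by
      simp only [Matrix.mulVecLin_apply]; rw [mul_comm]; congr 4; simp)
  have h2 : A.map σ = B.map σ * C.map σ := by rw [← Matrix.map_mul, ← h]
  rw [h2]
  exact (Matrix.rank_mul_le_left _ _).trans ((Matrix.rank_le_card_width _).trans (by simp))

theorem rank_map {L L' : Type*} [Field L] [Field L'] (σ : L ≃+* L') {m n : Type*} [Fintype m]
    [Fintype n] (A : Matrix m n L) : (A.map σ).rank = A.rank := by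
  refine le_antisymm (rank_map_le σ.toRingHom A) ?_
  have := rank_map_le σ.symm.toRingHom (A.map σ)
  simpa [Matrix.map_map, Function.comp_def] using this

/-- The dimension of a span containing a coordinate vector. -/
theorem finrank_span_union {ρ : Type*} [Fintype ρ] {n : ℕ} (g : ρ → Fin (n + 1) → k) :
    Module.finrank k (Submodule.span k (Set.range g ∪ {(Pi.single 0 1 : Fin (n + 1) → k)})) =
      (Matrix.of fun r (i : Fin n) => g r i.succ).rank + 1 := by
  classical
  set S := Submodule.span k (Set.range g ∪ {(Pi.single 0 1 : Fin (n + 1) → k)})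
  let π : (Fin (n + 1) → k) →ₗ[k] (Fin n → k) := LinearMap.pi fun i => LinearMap.proj i.succ
  have hπ0 : π (Pi.single 0 1) = 0 := funext fun i => by simp [π, Fin.succ_ne_zero]
  have hmap : Submodule.map π S =
      Submodule.span k (Set.range (Matrix.of fun r (i : Fin n) => g r i.succ).row) := by
    rw [Submodule.map_span, Set.image_union, Set.image_singleton, hπ0, ← Set.range_comp,
      Submodule.span_union, Submodule.span_singleton_eq_bot.mpr rfl, sup_bot_eq]
    rfl
  have hker : LinearMap.ker (π.domRestrict S) =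
      Submodule.span k {(⟨Pi.single 0 1, Submodule.subset_span (Or.inr rfl)⟩ : S)} := by
    refine le_antisymm (fun z hz => ?_) ?_
    · refine Submodule.mem_span_singleton.mpr ⟨z.1 0, Subtype.ext (funext fun i => ?_)⟩
      rcases Fin.eq_zero_or_eq_succ i with rfl | ⟨i', rfl⟩
      · simp
      · have := congrFun (LinearMap.mem_ker.mp hz) i'
        simp [π] at this
        simp [Fin.succ_ne_zero, this]
    · rw [Submodule.span_le, Set.singleton_subset_iff, SetLike.mem_coe, LinearMap.mem_ker]
      exact hπ0
  have h := (π.domRestrict S).finrank_range_add_finrank_ker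
  rw [LinearMap.range_domRestrict, hmap, hker, finrank_span_singleton ?_] at h
  · rw [Matrix.rank_eq_finrank_span_row]; omega
  · intro h0
    have := congrFun (congrArg Subtype.val h0) 0
    simp at this

theorem adjoin_ratios {n : ℕ} {φ : Fin (n + 1) → K}
    (hbir : IntermediateField.adjoin k (Set.range fun i => φ i / φ 0) = ⊤)
    (h0 : φ 0 ≠ 0) {j : Fin (n + 1)} (hj : φ j ≠ 0) :
    IntermediateField.adjoin k (Set.range fun i => φ i / φ j) = ⊤ :=
  (Chart.field_adjoin_eq φ hj h0).trans hbir

theorem adjoin_xy {φ : Fin 3 → K}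
    (hbir : IntermediateField.adjoin k (Set.range fun i => φ i / φ 0) = ⊤) (h0 : φ 0 ≠ 0) :
    IntermediateField.adjoin k ({φ 1 / φ 0, φ 2 / φ 0} : Set K) = ⊤ := by
  rw [eq_top_iff, ← hbir, IntermediateField.adjoin_le_iff]
  rintro _ ⟨i, rfl⟩
  fin_cases i
  · simp [div_self h0]
  · exact IntermediateField.subset_adjoin k _ (by simp)
  · exact IntermediateField.subset_adjoin k _ (by simp)

/-- The homogeneous ideal of a plane curve is generated by its equation. -/
theorem span_eq_ker [IsAlgClosed k] (hK : FunFld.IsFunctionField k K) {φ : Fin 3 → K}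
    (hne : φ 0 ≠ 0) (hbir : IntermediateField.adjoin k (Set.range fun i => φ i / φ 0) = ⊤)
    {f : MvPolynomial (Fin 3) k} (hf : Irreducible f) {n : ℕ} (hhom : f.IsHomogeneous n)
    (hfφ : aeval φ f = 0) :
    Ideal.span (Set.range fun _ : Unit => f) =
      RingHom.ker (aeval fun i => Polynomial.C (φ i) * Polynomial.X) := by
  have hxy := adjoin_xy hbir hne
  obtain ⟨g, hg, hgxy⟩ := PlaneGenus.exists_equation hK (φ 1 / φ 0) (φ 2 / φ 0)
  obtain ⟨hker, hirr⟩ := Homog.ker_eq_span hK hxy hg hgxy
  have hv : φ = fun i => φ 0 * ![(1 : K), φ 1 / φ 0, φ 2 / φ 0] i := funext fun i => by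
    have := hne
    fin_cases i <;> simp <;> field_simp
  have hscale : ∀ {F : MvPolynomial (Fin 3) k} {m : ℕ}, F.IsHomogeneous m →
      (aeval φ F = 0 ↔ aeval ![(1 : K), φ 1 / φ 0, φ 2 / φ 0] F = 0) := by
    intro F m hF
    conv_lhs => rw [hv]
    rw [Diff.aeval_smul_homogeneous hF, mul_eq_zero, or_iff_right (pow_ne_zero _ hne)]
  have hassoc := (hirr.dvd_irreducible_iff_associated hf).mp
    (Homog.dvd_of_homogeneous hK hxy hg hgxy hhom ((hscale hhom).mp hfφ))
  rw [Set.range_const, ← Ideal.span_singleton_eq_span_singleton.mpr hassoc, ← hker]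
  ext F
  rw [RingHom.mem_ker, RingHom.mem_ker, Homog.mem_ker_T, Homog.mem_ker_T]
  exact forall_congr' fun m => (hscale (homogeneousComponent_isHomogeneous m F)).symm

/-- Singular points are the common zeros of the partial derivatives. -/
theorem iff_singular [IsAlgClosed k] (hK : FunFld.IsFunctionField k K) {φ : Fin 3 → K}
    (hne : φ 0 ≠ 0) (hbir : IntermediateField.adjoin k (Set.range fun i => φ i / φ 0) = ⊤)
    {f : MvPolynomial (Fin 3) k} (hf : Irreducible f) {n : ℕ} (hhom : f.IsHomogeneous n)
    (hfφ : aeval φ f = 0) {P : Pl} {j : Fin 3} (hj : Chart.IsMax φ j P) {a : Fin 3 → k}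
    (hv : ∀ i, P.1 (φ i / φ j - algebraMap k K (a i)) < 1) :
    ¬ _root_.FunFld.IsNonsingularAt φ P ↔ ∀ l, aeval a (pderiv l f) = 0 := by
  classical
  rw [Local.iff_finrank hK hj (adjoin_ratios hbir hne hj.1) hv,
    Local.W_eq_span (fun _ : Unit => f) (fun _ => n) (fun _ => hhom) hj.1
      (span_eq_ker hK hne hbir hf hhom hfφ) hv, Set.range_const, Fintype.card_fin]
  set g := Local.dlin a f with hg
  set e : Fin 3 → k := Pi.single j 1 with he
  have haj : a j = 1 := Chart.const_unique P (hv j) (by
    rw [div_self hj.1, map_one, sub_self, map_zero]; exact zero_lt_one)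
  have hfa : aeval a f = 0 := by
    refine Local.aeval_eq_zero_of hv ?_
    have e2 : (fun i => φ i / φ j) = fun i => (φ j)⁻¹ * φ i := funext fun i => by rw [div_eq_inv_mul]
    rw [e2, Diff.aeval_smul_homogeneous hhom, hfφ, mul_zero]
  have heul : ∑ i, a i * g i = 0 := by
    have := congrArg (aeval a) hhom.sum_X_mul_pderiv
    simpa only [map_sum, map_mul, aeval_X, map_nsmul, hfa, smul_zero, hg, Local.dlin_apply] using this
  constructor
  · intro hrank l
    by_contra hl
    refine hrank ?_
    have hli : LinearIndependent k ![g, e] := by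
      rw [LinearIndependent.pair_iff]
      intro s t hst
      have hs : s = 0 := by
        by_contra hs
        have hgi : ∀ i, i ≠ j → g i = 0 := fun i hi => by
          have := congrFun hst i
          simpa [he, hi, hs] using this
        have hgj : g j = 0 := by
          rw [Finset.sum_eq_single j (fun i _ hi => by rw [hgi i hi, mul_zero])
            (fun h => absurd (Finset.mem_univ j) h), haj, one_mul] at heul
          exact heul
        rcases eq_or_ne l j with rfl | hlj
        · exact hl hgj
        · exact hl (hgi l hlj)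
      refine ⟨hs, ?_⟩
      have := congrFun hst j
      simpa [hs, he] using this
    have h2 := finrank_span_eq_card hli
    rw [Fintype.card_fin] at h2
    rw [show ({g} : Set (Fin 3 → k)) ∪ {e} = Set.range ![g, e] by
      rw [Matrix.range_cons, Matrix.range_cons, Matrix.range_empty, Set.union_empty], h2]
  · intro hall h3
    have hg0 : g = 0 := funext hall
    rw [hg0, Submodule.span_union, Submodule.span_singleton_eq_bot.mpr rfl, bot_sup_eq,
      finrank_span_singleton (by simp [he])] at h3
    omega

/-- The tangent line vanishes to order at least two. -/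
theorem tangent {φ : Fin 3 → K} {f : MvPolynomial (Fin 3) k} {n : ℕ} (hhom : f.IsHomogeneous n)
    (hfφ : aeval φ f = 0) {P : Pl} {j : Fin 3} {a : Fin 3 → k}
    (hv : ∀ i, P.1 (φ i / φ j - algebraMap k K (a i)) < 1) :
    P.1 (∑ i, aeval a (pderiv i f) • (φ i / φ j)) ≤ exp (-2) := by
  have hfv : aeval (fun i => φ i / φ j) f = 0 := by
    have e2 : (fun i => φ i / φ j) = fun i => (φ j)⁻¹ * φ i := funext fun i => by rw [div_eq_inv_mul]
    rw [e2, Diff.aeval_smul_homogeneous hhom, hfφ, mul_zero]
  have hfa := Local.aeval_eq_zero_of hv hfv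
  have heul : ∑ i, a i * aeval a (pderiv i f) = 0 := by
    have := congrArg (aeval a) hhom.sum_X_mul_pderiv
    simpa only [map_sum, map_mul, aeval_X, map_nsmul, hfa, smul_zero] using this
  have := Local.val_linear_le_of_mem hv (Local.dlin_mem_W a hfv)
  refine le_of_eq_of_le (congrArg P.1 ?_) this
  simp only [Local.dlin_apply, smul_sub, Finset.sum_sub_distrib]
  rw [sub_eq_self.mpr]
  rw [Finset.sum_congr rfl fun i _ => Algebra.smul_def _ _]
  simp only [← map_mul, ← map_sum]
  rw [Finset.sum_congr rfl fun i _ => mul_comm _ _, heul, map_zero]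

end Groth.Agent.Lib.FunFld.PlaneCurve.Plane

namespace Groth.Agent.Lib.FunFld.PlaneCurve.Plane

open MvPolynomial
open Groth.Agent.Lib.FunFld

universe u v
variable {k : Type u} [Field k] {K : Type v} [Field K] [Algebra k K] {ι : Type*} [Fintype ι]

theorem residue_aeval {P : _root_.FunFld.Place k K} {v : ι → K} {a : ι → k}
    (hv : ∀ i, P.1 (v i - algebraMap k K (a i)) < 1) (F : MvPolynomial ι k) (z : P.O)
    (hz : (z : K) = aeval v F) :
    IsLocalRing.residue P.O z = algebraMap k (IsLocalRing.ResidueField P.O) (aeval a F) := by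
  rw [Place.algebraMap_residue, ← sub_eq_zero, ← map_sub, Place.res_eq_zero_iff]
  change P.1 ((z : K) - algebraMap k K (aeval a F)) < 1
  rw [hz]
  exact Local.val_aeval_sub_lt hv F

theorem aeval_residue {P : _root_.FunFld.Place k K} {v : ι → K} {a : ι → k} (z : ι → P.O)
    (hz : ∀ i, (z i : K) = v i) (hv : ∀ i, P.1 (v i - algebraMap k K (a i)) < 1)
    (F : MvPolynomial ι k) :
    aeval (fun i => IsLocalRing.residue P.O (z i)) F =
      algebraMap k (IsLocalRing.ResidueField P.O) (aeval a F) := by
  rw [← Local.aeval_algebraMap (K := IsLocalRing.ResidueField P.O) a F]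
  congr 2
  funext i
  rw [residue_aeval hv (X i) (z i) (by rw [aeval_X, hz]), aeval_X]

end Groth.Agent.Lib.FunFld.PlaneCurve.Plane
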