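import Groth.Prelude.Def_W4bk4goldsch45p2
import Groth.Agent.Lib.FunFld.Hasse.Diff
import Mathlib.RingTheory.MvPolynomial.EulerIdentity
import Mathlib.LinearAlgebra.Matrix.Determinant.Basic
import Mathlib.Tactic.Module

/-! The differential of a plane curve under a change of projective coordinates. -/

namespace Groth.Agent.Lib.FunFld.PlaneCurve.Diff

open MvPolynomial

universe u v w
variable {k : Type u} [Field k]

/-- The chain rule for a derivation and a polynomial. -/
theorem derivation_aeval {σ : Type*} [Fintype σ] {A : Type v} [CommRing A] [Algebra k A]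
    {M : Type w} [AddCommGroup M] [Module A M] [Module k M]
    (δ : Derivation k A M) (v : σ → A) (F : MvPolynomial σ k) :
    δ (aeval v F) = ∑ i, aeval v (pderiv i F) • δ (v i) := by
  classical
  induction F using MvPolynomial.induction_on with
  | C a => simp
  | add p q hp hq => simp only [map_add, hp, hq, add_smul, Finset.sum_add_distrib]
  | mul_X p i hp =>
    rw [map_mul, Derivation.leibniz, hp, aeval_X]
    simp only [pderiv_mul, pderiv_X, map_add, map_mul, aeval_X, add_smul, Finset.sum_add_distrib,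
      Finset.smul_sum, smul_smul]
    rw [add_comm]
    congr 1
    · exact Finset.sum_congr rfl fun j _ => by rw [mul_comm]
    · rw [Finset.sum_eq_single i (fun j _ hj => by rw [Pi.single_eq_of_ne hj.symm]; simp)
        (fun h => absurd (Finset.mem_univ i) h)]
      simp

variable {K : Type v} [Field K] [Algebra k K]

/-- The linear change of variables. -/
noncomputable def sub (A : Matrix (Fin 3) (Fin 3) k) (i : Fin 3) : MvPolynomial (Fin 3) k :=
  ∑ j, C (A i j) * X j

theorem aeval_sub (A : Matrix (Fin 3) (Fin 3) k) (w : Fin 3 → K) (i : Fin 3) :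
    aeval w (sub A i) = ∑ j, algebraMap k K (A i j) * w j := by
  simp [sub, map_sum]

theorem pderiv_sub (A : Matrix (Fin 3) (Fin 3) k) (i l : Fin 3) :
    pderiv l (sub A i) = C (A i l) := by
  classical
  simp only [sub, map_sum, pderiv_C_mul, pderiv_X]
  rw [Finset.sum_eq_single l (fun j _ hj => by rw [Pi.single_eq_of_ne hj]; simp)
    (fun h => absurd (Finset.mem_univ l) h)]
  simp

theorem aeval_pderiv_comp (A : Matrix (Fin 3) (Fin 3) k) (w : Fin 3 → K)
    (f : MvPolynomial (Fin 3) k) (l : Fin 3) :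
    aeval w (pderiv l (aeval (sub A) f)) =
      ∑ i, aeval (fun i => aeval w (sub A i)) (pderiv i f) * algebraMap k K (A i l) := by
  rw [derivation_aeval, map_sum]
  refine Finset.sum_congr rfl fun i _ => ?_
  rw [pderiv_sub, smul_eq_mul, map_mul, aeval_C, ← AlgHom.comp_apply, MvPolynomial.comp_aeval]

theorem aeval_smul_homogeneous {σ : Type*} {F : MvPolynomial σ k} {n : ℕ} (h : F.IsHomogeneous n)
    (t : K) (v : σ → K) : aeval (fun i => t * v i) F = t ^ n * aeval v F := by
  conv_lhs => rw [F.as_sum]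
  conv_rhs => rw [F.as_sum]
  rw [map_sum, map_sum, Finset.mul_sum]
  refine Finset.sum_congr rfl fun d hd => ?_
  rw [aeval_monomial, aeval_monomial]
  simp only [mul_pow, Finsupp.prod, Finset.prod_mul_distrib, Finset.prod_pow_eq_pow_sum]
  rw [show ∑ i ∈ d.support, d i = n by
    rw [← h (mem_support_iff.mp hd), Finsupp.weight_apply, Finsupp.sum]; simp]
  ring

theorem euler {f : MvPolynomial (Fin 3) k} {e : ℕ} (hf : f.IsHomogeneous e) {v : Fin 3 → K}
    (h : aeval v f = 0) : ∑ i, v i * aeval v (pderiv i f) = 0 := by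
  have := congrArg (aeval v) hf.sum_X_mul_pderiv
  simpa [map_sum, h] using this

theorem core (f : MvPolynomial (Fin 3) k) (e : ℕ) (hf : f.IsHomogeneous e)
    (x y : K) (hfxy : aeval ![(1 : K), x, y] f = 0) (A : Matrix (Fin 3) (Fin 3) k)
    (u : Fin 3 → K) (hu : ∀ i, ∑ j, algebraMap k K (A i j) * u j = ![(1 : K), x, y] i) :
    (∑ i, aeval ![(1 : K), x, y] (pderiv i f) * algebraMap k K (A i 2)) •
        KaehlerDifferential.D k K x =
      (algebraMap k K A.det * aeval ![(1 : K), x, y] (pderiv 2 f)) •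
        (u 0 • KaehlerDifferential.D k K (u 1) - u 1 • KaehlerDifferential.D k K (u 0)) := by
  set δ := KaehlerDifferential.D k K
  have hE := euler hf hfxy
  have hD : ∑ i, aeval ![(1 : K), x, y] (pderiv i f) • δ (![(1 : K), x, y] i) = 0 := by
    rw [← derivation_aeval, hfxy, map_zero]
  have hDv : ∀ i, δ (![(1 : K), x, y] i) = ∑ j, algebraMap k K (A i j) • δ (u j) := fun i => by
    rw [← hu i, map_sum]
    exact Finset.sum_congr rfl fun j _ => by
      rw [Derivation.leibniz, Derivation.map_algebraMap, smul_zero, add_zero]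
  rw [Finset.sum_congr rfl fun i _ => by rw [hDv i]] at hD
  rw [Finset.sum_congr rfl fun i _ => by rw [← hu i]] at hE
  set g := fun i => aeval ![(1 : K), x, y] (pderiv i f) with hg
  set G := fun j => ∑ i, g i * algebraMap k K (A i j) with hG
  have hGu : G 0 * u 0 + G 1 * u 1 + G 2 * u 2 = 0 := by
    simp only [hG, hg, Fin.sum_univ_three] at hE ⊢
    linear_combination hE
  have hGd : G 0 • δ (u 0) + G 1 • δ (u 1) + G 2 • δ (u 2) = 0 := by
    simp only [hG, hg, Fin.sum_univ_three] at hD ⊢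
    rw [← hD]; module
  have hx : δ x =
      (algebraMap k K (A 0 1) * algebraMap k K (A 1 2) - algebraMap k K (A 0 2) * algebraMap k K (A 1 1)) •
          (u 1 • δ (u 2) - u 2 • δ (u 1)) +
      (algebraMap k K (A 0 2) * algebraMap k K (A 1 0) - algebraMap k K (A 0 0) * algebraMap k K (A 1 2)) •
          (u 2 • δ (u 0) - u 0 • δ (u 2)) +
      (algebraMap k K (A 0 0) * algebraMap k K (A 1 1) - algebraMap k K (A 0 1) * algebraMap k K (A 1 0)) •
          (u 0 • δ (u 1) - u 1 • δ (u 0)) := by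
    have h0 := hDv 0
    have h1 := hDv 1
    simp only [Matrix.cons_val_zero, Matrix.cons_val_one, Derivation.map_one_eq_zero,
      Fin.sum_univ_three] at h0 h1
    have hu0 := hu 0
    have hu1 := hu 1
    simp only [Matrix.cons_val_zero, Matrix.cons_val_one, Fin.sum_univ_three] at hu0 hu1
    calc δ x = (1 : K) • δ x - x • (0 : KaehlerDifferential k K) := by rw [one_smul, smul_zero, sub_zero]
      _ = _ := by
        conv_lhs => rw [h0, h1, ← hu0, ← hu1]
        module
  have hw0 : G 2 • (u 1 • δ (u 2) - u 2 • δ (u 1)) = G 0 • (u 0 • δ (u 1) - u 1 • δ (u 0)) := by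
    have : G 2 • (u 1 • δ (u 2) - u 2 • δ (u 1)) - G 0 • (u 0 • δ (u 1) - u 1 • δ (u 0)) =
        u 1 • (G 0 • δ (u 0) + G 1 • δ (u 1) + G 2 • δ (u 2)) -
          (G 0 * u 0 + G 1 * u 1 + G 2 * u 2) • δ (u 1) := by module
    rw [hGd, hGu, smul_zero, zero_smul, sub_zero] at this
    exact sub_eq_zero.mp this
  have hw1 : G 2 • (u 2 • δ (u 0) - u 0 • δ (u 2)) = G 1 • (u 0 • δ (u 1) - u 1 • δ (u 0)) := by
    have : G 2 • (u 2 • δ (u 0) - u 0 • δ (u 2)) - G 1 • (u 0 • δ (u 1) - u 1 • δ (u 0)) =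
        (G 0 * u 0 + G 1 * u 1 + G 2 * u 2) • δ (u 0) -
          u 0 • (G 0 • δ (u 0) + G 1 • δ (u 1) + G 2 • δ (u 2)) := by module
    rw [hGd, hGu, smul_zero, zero_smul, sub_zero] at this
    exact sub_eq_zero.mp this
  change G 2 • δ x = _
  rw [hx, smul_add, smul_add, smul_comm (G 2), hw0, smul_comm (G 2), hw1, smul_comm (G 2) _ (_ - _),
    smul_smul, smul_smul, smul_smul, ← add_smul, ← add_smul]
  congr 1
  simp only [hG, hg, Fin.sum_univ_three, Matrix.det_fin_three, map_add, map_sub, map_mul]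
  ring

/-- `dx / f_y = det A · z^(e-3) · dx' / f'_y'`. -/
theorem change (f : MvPolynomial (Fin 3) k) (e : ℕ) (hf : f.IsHomogeneous e)
    (x y : K) (hfxy : aeval ![(1 : K), x, y] f = 0) (A : Matrix (Fin 3) (Fin 3) k)
    (u : Fin 3 → K) (hu : ∀ i, ∑ j, algebraMap k K (A i j) * u j = ![(1 : K), x, y] i)
    (hu0 : u 0 ≠ 0) (hfy : aeval ![(1 : K), x, y] (pderiv 2 f) ≠ 0)
    (hfy' : aeval ![(1 : K), u 1 / u 0, u 2 / u 0] (pderiv 2 (aeval (sub A) f)) ≠ 0) :
    (aeval ![(1 : K), x, y] (pderiv 2 f))⁻¹ • KaehlerDifferential.D k K x =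
      (algebraMap k K A.det * (u 0)⁻¹ ^ ((e : ℤ) - 3) *
        (aeval ![(1 : K), u 1 / u 0, u 2 / u 0] (pderiv 2 (aeval (sub A) f)))⁻¹) •
        KaehlerDifferential.D k K (u 1 / u 0) := by
  have hw : (fun i => aeval ![(1 : K), u 1 / u 0, u 2 / u 0] (sub A i)) =
      fun i => (u 0)⁻¹ * ![(1 : K), x, y] i := by
    funext i
    rw [aeval_sub, ← hu i, Finset.mul_sum]
    refine Finset.sum_congr rfl fun j _ => ?_
    fin_cases j <;> simp <;> field_simp
  rw [aeval_pderiv_comp, hw] at hfy' ⊢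
  simp only [aeval_smul_homogeneous hf.pderiv, mul_assoc, ← Finset.mul_sum] at hfy' ⊢
  have hc := core f e hf x y hfxy A u hu
  set G := ∑ i, aeval ![(1 : K), x, y] (pderiv i f) * algebraMap k K (A i 2)
  set g := aeval ![(1 : K), x, y] (pderiv 2 f)
  have hG : G ≠ 0 := right_ne_zero_of_mul hfy'
  have hd : KaehlerDifferential.D k K (u 1 / u 0) = (u 0 ^ 2)⁻¹ •
      (u 0 • KaehlerDifferential.D k K (u 1) - u 1 • KaehlerDifferential.D k K (u 0)) := by
    rw [Derivation.leibniz_div, ← inv_pow]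
  have he : e ≠ 0 := by
    rintro rfl
    refine hfy ?_
    have h0 : f.totalDegree = 0 := Nat.le_zero.mp hf.totalDegree_le
    simp only [g]
    rw [totalDegree_eq_zero_iff_eq_C.mp h0, pderiv_C, map_zero]
  rw [← smul_right_inj hG, smul_comm, hc, hd, smul_smul, smul_smul, smul_smul]
  congr 1
  have hp : (u 0)⁻¹ ^ ((e : ℤ) - 3) = (u 0)⁻¹ ^ (e - 1) * (u 0) ^ 2 := by
    rw [show (e : ℤ) - 3 = ((e - 1 : ℕ) : ℤ) + (-2) by omega, zpow_add₀ (inv_ne_zero hu0), zpow_natCast,
      zpow_neg, inv_zpow, inv_inv, zpow_ofNat]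
  rw [hp]
  field_simp

end Groth.Agent.Lib.FunFld.PlaneCurve.Diff
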