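import Groth.Agent.Lib.FunFld.LinSys.Plane
import Groth.Agent.Lib.FunFld.LinSys.PlaneGenus
import Groth.Agent.Lib.FunFld.PlaneCurve.Diff
import Mathlib.RingTheory.MvPolynomial.Homogeneous

/-! The ideal of a plane curve, affine and homogeneous. -/

namespace Groth.Agent.Lib.FunFld.PlaneCurve.Homog

open MvPolynomial
open Groth.Agent.Lib.FunFld Groth.Agent.Lib.FunFld.LinSys

universe u v
variable {k : Type u} [Field k] {K : Type v} [Field K] [Algebra k K]

theorem transcendental_or (hK : FunFld.IsFunctionField k K) {x y : K}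
    (hxy : IntermediateField.adjoin k ({x, y} : Set K) = ⊤) :
    Transcendental k x ∨ Transcendental k y := by
  by_contra h
  simp only [not_or, Transcendental, not_not] at h
  obtain ⟨c, hc⟩ := hK.2 x h.1
  obtain ⟨d, hd⟩ := hK.2 y h.2
  obtain ⟨t, ht⟩ := Riemann.exists_transcendental hK
  have hbot : IntermediateField.adjoin k ({x, y} : Set K) = ⊥ := by
    rw [eq_bot_iff, IntermediateField.adjoin_le_iff]
    rintro z (rfl | rfl)
    exacts [IntermediateField.mem_bot.mpr ⟨c, hc⟩, IntermediateField.mem_bot.mpr ⟨d, hd⟩]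
  rw [hbot] at hxy
  have ht' : t ∈ (⊥ : IntermediateField k K) := hxy ▸ IntermediateField.mem_top
  exact Bound.not_mem_range_of_transcendental ht (IntermediateField.mem_bot.mp ht')

/-- The relations between two generators are the multiples of the irreducible one. -/
theorem dvd_of_aeval_eq_zero [IsAlgClosed k] (hK : FunFld.IsFunctionField k K) {x y : K}
    (hxy : IntermediateField.adjoin k ({x, y} : Set K) = ⊤) {f : MvPolynomial (Fin 2) k}
    (hf : Irreducible f) (hfxy : aeval ![x, y] f = 0) {G : MvPolynomial (Fin 2) k}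
    (hG : aeval ![x, y] G = 0) : f ∣ G := by
  classical
  have hsub : {c : k | ¬ Transcendental k (x + algebraMap k K c * y)}.Subsingleton := by
    intro c hc c' hc'
    by_contra hne
    simp only [Transcendental, not_not, Set.mem_ofPred_eq] at hc hc'
    obtain ⟨a, ha⟩ := hK.2 _ hc
    obtain ⟨b, hb⟩ := hK.2 _ hc'
    have hd : algebraMap k K (c - c') ≠ 0 := by simpa [sub_eq_zero] using hne
    have hy : y = algebraMap k K ((a - b) * (c - c')⁻¹) := by
      rw [map_mul, map_inv₀, eq_mul_inv_iff_mul_eq₀ hd, map_sub, map_sub, ha, hb]; ring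
    have hx : x = algebraMap k K (a - c * ((a - b) * (c - c')⁻¹)) := by
      rw [map_sub, map_mul _ c, ← hy, ha]; ring
    rcases transcendental_or hK hxy with h | h
    · exact Bound.not_mem_range_of_transcendental h ⟨_, hx.symm⟩
    · exact Bound.not_mem_range_of_transcendental h ⟨_, hy.symm⟩
  obtain ⟨c, hc⟩ := ((PlanePoly.finite_bad f hf.ne_zero).union hsub.finite).exists_notMem
  simp only [Set.mem_union, Set.mem_ofPred_eq, not_or, not_not] at hc
  obtain ⟨hc1, ht⟩ := hc
  set h := x + algebraMap k K c * y with hh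
  obtain ⟨g, hgm, hgd, hgi, -, a, hga⟩ := PlanePoly.exists_monic f hf c hc1
  have hev : ∀ p, Polynomial.aevalTower (Polynomial.aeval h) y (PlanePoly.subst c p) = aeval ![x, y] p := by
    have h1 : (Polynomial.aevalTower (Polynomial.aeval h) y).comp
        (PlanePoly.subst c).toAlgHom = aeval ![x, y] :=
      algHom_ext fun i => by
        fin_cases i <;> simp [PlanePoly.subst_apply, Polynomial.aevalTower, hh]
    exact fun p => DFunLike.congr_fun h1 p
  have hgz : Polynomial.aevalTower (Polynomial.aeval h) y g = 0 := by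
    rw [hga, map_mul, hev, hfxy, mul_zero]
  have htop : IntermediateField.adjoin k ({h, y} : Set K) = ⊤ := by
    rw [← top_le_iff, ← hxy, IntermediateField.adjoin_le_iff]
    rintro z (rfl | rfl)
    · have h1 : h ∈ IntermediateField.adjoin k ({h, y} : Set K) :=
        IntermediateField.subset_adjoin k _ (by simp)
      have h2 : y ∈ IntermediateField.adjoin k ({h, y} : Set K) :=
        IntermediateField.subset_adjoin k _ (by simp)
      have := sub_mem h1 (mul_mem (IntermediateField.algebraMap_mem _ c) h2)
      simpa [hh] using this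
    · exact IntermediateField.subset_adjoin k _ (by simp)
  obtain ⟨-, hmin⟩ := Plane.finrank_adjoin_eq ht htop hgm hgi hgz
  have hli := Plane.linearIndependent_mono ht hmin
  set r := PlanePoly.subst c G %ₘ g
  have hr0 : Polynomial.aevalTower (Polynomial.aeval h) y r = 0 := by
    have h1 := congrArg (Polynomial.aevalTower (Polynomial.aeval h) y)
      (Polynomial.modByMonic_add_div (PlanePoly.subst c G) g)
    rw [map_add, map_mul, hgz, zero_mul, add_zero, hev, hG] at h1
    exact h1
  have hr : r = 0 := by
    by_contra hne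
    have hlt : r.natDegree < g.natDegree :=
      Polynomial.natDegree_modByMonic_lt _ hgm fun h1 => hgi.not_isUnit (h1 ▸ isUnit_one)
    refine hne (Polynomial.ext fun l => ?_)
    rw [Polynomial.coeff_zero]
    rcases le_or_gt g.natDegree l with hl | hl
    · exact Polynomial.coeff_eq_zero_of_natDegree_lt (hlt.trans_le hl)
    set co : ℕ × Fin g.natDegree →₀ k := Finsupp.onFinset
      ((Finset.range ((Finset.range g.natDegree).sup (fun l => (r.coeff l).natDegree) + 1)) ×ˢ Finset.univ)
      (fun p => (r.coeff (p.2 : ℕ)).coeff p.1) (by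
        rintro ⟨i, l⟩ hp
        simp only [Finset.mem_product, Finset.mem_univ, and_true, Finset.mem_range]
        dsimp only at hp
        have h1 := Polynomial.le_natDegree_of_ne_zero hp
        have h2 := Finset.le_sup (f := fun l => (r.coeff l).natDegree)
          (Finset.mem_range.mpr (l : Fin g.natDegree).isLt)
        omega) with hco
    have hco0 : Finsupp.linearCombination k (Plane.mono h y g.natDegree) co = 0 := by
      rw [Finsupp.linearCombination_apply, hco, Finsupp.onFinset_sum _ (by simp)]
      rw [← hr0, Finset.sum_product_right]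
      conv_rhs => rw [r.as_sum_range_C_mul_X_pow' hlt, map_sum]
      rw [← Fin.sum_univ_eq_sum_range (fun l => Polynomial.aevalTower (Polynomial.aeval h) y
        (Polynomial.C (r.coeff l) * Polynomial.X ^ l))]
      refine Finset.sum_congr rfl fun l _ => ?_
      simp only [map_mul, map_pow, Polynomial.aevalTower_C, Polynomial.aevalTower_X, Plane.mono]
      rw [Polynomial.aeval_eq_sum_range' (n := (Finset.range g.natDegree).sup
        (fun l => (r.coeff l).natDegree) + 1)
        (Nat.lt_succ_of_le (Finset.le_sup (f := fun l => (r.coeff l).natDegree)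
          (Finset.mem_range.mpr l.isLt))), Finset.sum_mul]
      exact Finset.sum_congr rfl fun i _ => by rw [smul_mul_assoc]
    refine Polynomial.ext fun i => ?_
    have := DFunLike.congr_fun ((linearIndependent_iff.mp hli) co hco0) (i, ⟨l, hl⟩)
    rw [hco, Finsupp.onFinset_apply] at this
    simpa using this
  have hdvd : g ∣ PlanePoly.subst c G := (Polynomial.modByMonic_eq_zero_iff_dvd hgm).mp hr
  rw [hga] at hdvd
  have h2 : PlanePoly.subst c f ∣ PlanePoly.subst c G := (dvd_mul_left _ _).trans hdvd
  have := map_dvd (PlanePoly.subst c).symm h2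
  simpa using this

/-- Setting `X₀ = 1`. -/
noncomputable def dehom : MvPolynomial (Fin 3) k →ₐ[k] MvPolynomial (Fin 2) k :=
  aeval ![1, X 0, X 1]

theorem aeval_dehom (x y : K) (F : MvPolynomial (Fin 3) k) :
    aeval ![x, y] (dehom F) = aeval ![(1 : K), x, y] F := by
  rw [dehom, ← AlgHom.comp_apply, comp_aeval]
  have : (fun i => aeval ![x, y] (![(1 : MvPolynomial (Fin 2) k), X 0, X 1] i)) = ![(1 : K), x, y] := by
    funext i; fin_cases i <;> simp
  rw [this]

/-- The homogeneous monomial of degree `n` over an affine monomial. -/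
noncomputable def hmon (n : ℕ) (m : Fin 2 →₀ ℕ) : Fin 3 →₀ ℕ :=
  Finsupp.single 0 (n - (m 0 + m 1)) + Finsupp.single 1 (m 0) + Finsupp.single 2 (m 1)

/-- Homogenization in degree `n`. -/
noncomputable def hom (n : ℕ) (p : MvPolynomial (Fin 2) k) : MvPolynomial (Fin 3) k :=
  ∑ m ∈ p.support, monomial (hmon n m) (p.coeff m)

theorem sum_eq_add (m : Fin 2 →₀ ℕ) : (m.sum fun _ a => a) = m 0 + m 1 := by
  rw [Finsupp.sum_fintype _ _ fun _ => rfl, Fin.sum_univ_two]

theorem le_of_mem_support {p : MvPolynomial (Fin 2) k} {n : ℕ} (hn : p.totalDegree ≤ n)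
    {m : Fin 2 →₀ ℕ} (hm : m ∈ p.support) : m 0 + m 1 ≤ n :=
  le_trans (le_of_eq_of_le (sum_eq_add m).symm (le_totalDegree hm)) hn

theorem hom_isHomogeneous {p : MvPolynomial (Fin 2) k} {n : ℕ} (hn : p.totalDegree ≤ n) :
    (hom n p).IsHomogeneous n :=
  IsHomogeneous.sum _ _ _ fun m hm => isHomogeneous_monomial _ (by
    have := le_of_mem_support hn hm
    rw [Finsupp.degree_eq_sum, Fin.sum_univ_three]
    simp [hmon]
    omega)

theorem dehom_monomial (d : Fin 3 →₀ ℕ) (a : k) :
    dehom (monomial d a) = monomial (Finsupp.single (0 : Fin 2) (d 1) + Finsupp.single 1 (d 2)) a := by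
  rw [dehom, aeval_monomial, Finsupp.prod_fintype _ _ (by simp), Fin.prod_univ_three]
  simp only [Matrix.cons_val_zero, one_pow, one_mul, Matrix.cons_val_one, Matrix.cons_val,
    algebraMap_eq, X_pow_eq_monomial, monomial_mul, C_mul_monomial, mul_one]

theorem dehom_hom (p : MvPolynomial (Fin 2) k) (n : ℕ) : dehom (hom n p) = p := by
  conv_rhs => rw [p.as_sum]
  rw [hom, map_sum]
  refine Finset.sum_congr rfl fun m _ => ?_
  rw [dehom_monomial]
  have e : Finsupp.single (0 : Fin 2) (hmon n m 1) + Finsupp.single 1 (hmon n m 2) = m := by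
    ext i; fin_cases i <;> simp [hmon]
  rw [e]

theorem dehom_injOn {F G : MvPolynomial (Fin 3) k} {n : ℕ} (hF : F.IsHomogeneous n)
    (hG : G.IsHomogeneous n) (h : dehom F = dehom G) : F = G := by
  rw [← sub_eq_zero]
  have hH : (F - G).IsHomogeneous n := hF.sub hG
  have h0 : dehom (F - G) = 0 := by rw [map_sub, h, sub_self]
  by_contra hne
  obtain ⟨d, hd⟩ := support_nonempty.mpr hne
  rw [(F - G).as_sum, map_sum] at h0
  have := congrArg (coeff (Finsupp.single (0 : Fin 2) (d 1) + Finsupp.single 1 (d 2))) h0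
  simp only [dehom_monomial, coeff_sum, coeff_monomial, coeff_zero] at this
  rw [Finset.sum_eq_single d] at this
  · rw [if_pos rfl] at this; exact mem_support_iff.mp hd this
  · intro b hb hbd
    rw [if_neg]
    intro he
    refine hbd (Finsupp.ext fun i => ?_)
    have h1 := DFunLike.congr_fun he 0
    have h2 := DFunLike.congr_fun he 1
    simp at h1 h2
    have e1 := hH (mem_support_iff.mp hb)
    have e2 := hH (mem_support_iff.mp hd)
    rw [Finsupp.weight_apply, Finsupp.sum_fintype _ _ (by simp), Fin.sum_univ_three] at e1 e2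
    simp at e1 e2
    fin_cases i <;> simp <;> omega
  · exact fun hne' => absurd hd hne'

theorem totalDegree_dehom_le {F : MvPolynomial (Fin 3) k} {n : ℕ} (hF : F.IsHomogeneous n) :
    (dehom F).totalDegree ≤ n := by
  rw [F.as_sum, map_sum]
  refine totalDegree_finsetSum_le fun d hd => ?_
  rw [dehom_monomial]
  refine (totalDegree_monomial_le _ _).trans ?_
  have e := hF (mem_support_iff.mp hd)
  rw [Finsupp.weight_apply, Finsupp.sum_fintype _ _ (by simp), Fin.sum_univ_three] at e
  simp at e
  rw [Finsupp.sum_fintype _ _ fun _ => rfl, Fin.sum_univ_two]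
  simp
  omega

/-- A homogeneous relation is a multiple of the homogenized equation. -/
theorem dvd_of_homogeneous [IsAlgClosed k] (hK : FunFld.IsFunctionField k K) {x y : K}
    (hxy : IntermediateField.adjoin k ({x, y} : Set K) = ⊤) {f : MvPolynomial (Fin 2) k}
    (hf : Irreducible f) (hfxy : aeval ![x, y] f = 0) {F : MvPolynomial (Fin 3) k} {n : ℕ}
    (hF : F.IsHomogeneous n) (h : aeval ![(1 : K), x, y] F = 0) :
    hom f.totalDegree f ∣ F := by
  obtain ⟨a, ha⟩ := dvd_of_aeval_eq_zero hK hxy hf hfxy (G := dehom F) (by rw [aeval_dehom, h])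
  rcases eq_or_ne F 0 with rfl | hF0
  · exact dvd_zero _
  have hdF : dehom F ≠ 0 := fun h0 => hF0 (dehom_injOn hF (isHomogeneous_zero _ _ n) (by rw [h0, map_zero]))
  have ha0 : a ≠ 0 := by rintro rfl; rw [mul_zero] at ha; exact hdF ha
  have hdeg : f.totalDegree + a.totalDegree ≤ n := by
    rw [← totalDegree_mul_of_isDomain hf.ne_zero ha0, ← ha]
    exact totalDegree_dehom_le hF
  refine ⟨hom (n - f.totalDegree) a, dehom_injOn hF ?_ ?_⟩
  · have := (hom_isHomogeneous (le_refl f.totalDegree)).mul
      (hom_isHomogeneous (p := a) (n := n - f.totalDegree) (by omega))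
    rwa [Nat.add_sub_cancel' (by omega)] at this
  · rw [map_mul, dehom_hom, dehom_hom, ha]

theorem aeval_hom {x y : K} {f : MvPolynomial (Fin 2) k} (h : aeval ![x, y] f = 0) :
    aeval ![(1 : K), x, y] (hom f.totalDegree f) = 0 := by
  rw [← aeval_dehom, dehom_hom, h]

theorem aeval_T {σ : Type*} (φ : σ → K) {F : MvPolynomial σ k} {n : ℕ} (hF : F.IsHomogeneous n) :
    aeval (fun i => Polynomial.C (φ i) * Polynomial.X) F =
      Polynomial.C (aeval φ F) * Polynomial.X ^ n := by
  conv_lhs => rw [F.as_sum]
  conv_rhs => rw [F.as_sum]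
  rw [map_sum, map_sum, map_sum, Finset.sum_mul]
  refine Finset.sum_congr rfl fun d hd => ?_
  rw [aeval_monomial, aeval_monomial]
  have hn : ∑ i ∈ d.support, d i = n := by
    rw [← hF (mem_support_iff.mp hd), Finsupp.weight_apply, Finsupp.sum]; simp
  simp only [mul_pow, Finsupp.prod, Finset.prod_mul_distrib, Finset.prod_pow_eq_pow_sum, hn,
    map_mul, map_prod, map_pow, Polynomial.algebraMap_apply]
  ring

theorem mem_ker_T {σ : Type*} (φ : σ → K) (F : MvPolynomial σ k) :
    aeval (fun i => Polynomial.C (φ i) * Polynomial.X) F = 0 ↔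
      ∀ n, aeval φ (homogeneousComponent n F) = 0 := by
  conv_lhs => rw [← F.sum_homogeneousComponent, map_sum,
    Finset.sum_congr rfl fun i _ => aeval_T φ (homogeneousComponent_isHomogeneous i F)]
  constructor
  · intro h n
    by_cases hn : n < F.totalDegree + 1
    · have := congrArg (fun p => Polynomial.coeff p n) h
      simp only [Polynomial.finsetSum_coeff, Polynomial.coeff_C_mul_X_pow, Polynomial.coeff_zero,
        Finset.sum_ite_eq, Finset.mem_range.mpr hn, if_true] at this
      exact this
    · rw [homogeneousComponent_eq_zero _ _ (by omega), map_zero]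
  · exact fun h => Finset.sum_eq_zero fun i _ => by rw [h i, map_zero, zero_mul]

/-- The homogeneous ideal of a plane curve is principal and prime. -/
theorem ker_eq_span [IsAlgClosed k] (hK : FunFld.IsFunctionField k K) {x y : K}
    (hxy : IntermediateField.adjoin k ({x, y} : Set K) = ⊤) {f : MvPolynomial (Fin 2) k}
    (hf : Irreducible f) (hfxy : aeval ![x, y] f = 0) :
    RingHom.ker (aeval fun i => Polynomial.C (![(1 : K), x, y] i) * Polynomial.X) =
        Ideal.span {hom f.totalDegree f} ∧
      Irreducible (hom f.totalDegree f) := by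
  have heq : RingHom.ker (aeval (R := k) fun i => Polynomial.C (![(1 : K), x, y] i) * Polynomial.X) =
      Ideal.span {hom f.totalDegree f} := by
    refine le_antisymm (fun F hF => ?_) ?_
    · rw [RingHom.mem_ker, mem_ker_T] at hF
      rw [Ideal.mem_span_singleton, ← F.sum_homogeneousComponent]
      exact Finset.dvd_sum fun n _ =>
        dvd_of_homogeneous hK hxy hf hfxy (homogeneousComponent_isHomogeneous n F) (hF n)
    · rw [Ideal.span_le, Set.singleton_subset_iff, SetLike.mem_coe, RingHom.mem_ker,
        aeval_T _ (hom_isHomogeneous le_rfl), aeval_hom hfxy, map_zero, zero_mul]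
  have hne : hom f.totalDegree f ≠ 0 := fun h => hf.ne_zero (by rw [← dehom_hom f f.totalDegree, h, map_zero])
  refine ⟨heq, Prime.irreducible ((Ideal.span_singleton_prime hne).mp ?_)⟩
  rw [← heq]
  exact RingHom.ker_isPrime _

/-- An irreducible homogeneous relation dehomogenizes to an irreducible one of the same degree. -/
theorem irreducible_dehom [IsAlgClosed k] (hK : FunFld.IsFunctionField k K) {x y : K}
    (hxy : IntermediateField.adjoin k ({x, y} : Set K) = ⊤) {F : MvPolynomial (Fin 3) k}
    (hF : Irreducible F) {n : ℕ} (hhom : F.IsHomogeneous n) (h : aeval ![(1 : K), x, y] F = 0) :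
    Irreducible (dehom F) ∧ aeval ![x, y] (dehom F) = 0 ∧ (dehom F).totalDegree = n := by
  obtain ⟨f, hf, hfxy⟩ := PlaneGenus.exists_equation hK x y
  obtain ⟨-, hH⟩ := ker_eq_span hK hxy hf hfxy
  obtain ⟨w, hw⟩ := (hH.dvd_irreducible_iff_associated hF).mp (dvd_of_homogeneous hK hxy hf hfxy hhom h)
  have e : dehom F = f * (w.map (dehom (k := k)).toRingHom.toMonoidHom : MvPolynomial (Fin 2) k) := by
    rw [← hw, map_mul, dehom_hom]; rfl
  have hassoc : Associated f (dehom F) := ⟨_, e.symm⟩
  refine ⟨hassoc.irreducible hf, by rw [aeval_dehom, h], ?_⟩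
  have hdeg : n = f.totalDegree := by
    obtain ⟨r, hr, hwr⟩ := MvPolynomial.isUnit_iff_eq_C_of_isReduced.mp w.isUnit
    rw [← hw, hwr] at hhom
    refine hhom.inj_right ?_ (by
      rw [← hwr]; exact mul_ne_zero hH.ne_zero w.ne_zero)
    simpa using (hom_isHomogeneous (le_refl f.totalDegree)).mul (isHomogeneous_C (Fin 3) r)
  rw [e, totalDegree_mul_of_isDomain hf.ne_zero (Units.ne_zero _), hdeg]
  obtain ⟨r, hr, hwr⟩ := MvPolynomial.isUnit_iff_eq_C_of_isReduced.mp
    (w.map (dehom (k := k)).toRingHom.toMonoidHom).isUnit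
  rw [hwr, totalDegree_C, add_zero]

end Groth.Agent.Lib.FunFld.PlaneCurve.Homog
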