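import Groth.Agent.Lib.FunFld.PlaneCurve.Blowup
import Groth.Agent.Lib.FunFld.PlaneCurve.Plane
import Groth.Agent.Lib.FunFld.PlaneCurve.Adjoint
import Groth.Agent.Lib.FunFld.PlaneCurve.Homog

/-! Signs of the coefficients of the adjoint divisor of a plane map. -/

namespace Groth.Agent.Lib.FunFld.PlaneCurve.AdjointNonneg

open WithZero MvPolynomial
open Groth.Agent.Lib.FunFld Groth.Agent.Lib.FunFld.LinSys

universe u v
variable {k : Type u} [Field k] {K : Type v} [Field K] [Algebra k K]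

theorem pderiv_dehom (i : Fin 2) (F : MvPolynomial (Fin 3) k) :
    pderiv i (Homog.dehom F) = Homog.dehom (pderiv i.succ F) := by
  classical
  rw [Homog.dehom, Diff.derivation_aeval, Fin.sum_univ_three]
  fin_cases i <;> simp

theorem affine [IsAlgClosed k] (hK : FunFld.IsFunctionField k K) {Q : _root_.FunFld.Place k K}
    {ψ : K →ₐ[k] LaurentSeries k} (hψ : LocRes.IsExpansionAt Q.1 ψ) {x y : K}
    (hxy : IntermediateField.adjoin k ({x, y} : Set K) = ⊤) {F : MvPolynomial (Fin 3) k} {n : ℕ}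
    (hhom : F.IsHomogeneous n) (hF : aeval ![(1 : K), x, y] F = 0) (hD : LocRes.D k (ψ x) ≠ 0)
    {a b : k} (ha : Q.1 (x - algebraMap k K a) < 1) (hb : Q.1 (y - algebraMap k K b) < 1) :
    Q.1 (aeval ![(1 : K), x, y] (pderiv 2 F)) ≤ Valued.v (LocRes.D k (ψ x)) ∧
      (Q.1 (aeval ![(1 : K), x, y] (pderiv 2 F)) = Valued.v (LocRes.D k (ψ x)) ↔
        ¬ ∀ l, aeval ![(1 : k), a, b] (pderiv l F) = 0) := by
  classical
  set G := Homog.dehom F with hG
  have hGz : aeval ![x, y] G = 0 := by rw [hG, Homog.aeval_dehom, hF]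
  have hp : ∀ i : Fin 2, aeval ![x, y] (pderiv i G) = aeval ![(1 : K), x, y] (pderiv i.succ F) :=
    fun i => by rw [hG, pderiv_dehom, Homog.aeval_dehom]
  have hpc : ∀ i : Fin 2, aeval ![a, b] (pderiv i G) = aeval ![(1 : k), a, b] (pderiv i.succ F) :=
    fun i => by rw [hG, pderiv_dehom, Homog.aeval_dehom]
  have hv : ∀ i, Q.1 (![x, y] i - algebraMap k K (![a, b] i)) < 1 := fun i => by
    fin_cases i <;> assumption
  have hxy1 := Local.val_le_one_of_near hv
  obtain ⟨N, hN⟩ := Blowup.exists_conductor hK hxy (hxy1 0) (hxy1 1)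
  have hxa : x - algebraMap k K a ≠ 0 := fun h => hD (by
    rw [← Blowup.D_const_sub ψ x a, h, map_zero, map_zero])
  have hpos := ((Place.val_lt_one_iff Q).mp ha).resolve_left hxa
  obtain ⟨h1, h2⟩ := Blowup.main hψ N _ (Q.ord (x - algebraMap k K a)).toNat x y a b G le_rfl
    (by rw [Int.toNat_of_nonneg (by omega), Place.val_eq_exp Q hxa]) (by omega) hb hN hD hGz
  rw [hp 1, show (1 : Fin 2).succ = 2 from rfl] at h1 h2
  refine ⟨h1, ⟨fun heq hall => ?_, fun hns => ?_⟩⟩
  · have h3 := h2 fun i => by rw [hpc]; exact hall _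
    rw [heq] at h3
    have hpos' : 0 < Valued.v (LocRes.D k (ψ x)) := zero_lt_iff.mpr ((Valuation.ne_zero_iff _).mpr hD)
    have h4 : (1 : WithZero (Multiplicative ℤ)) ≤ exp (-1) :=
      le_of_mul_le_mul_right (by rwa [one_mul]) hpos'
    rw [← exp_zero, exp_le_exp] at h4
    omega
  · refine le_antisymm h1 ?_
    by_cases hfy : aeval ![a, b] (pderiv 1 G) = 0
    · have hfx : aeval ![a, b] (pderiv 0 G) ≠ 0 := by
        intro hfx
        rw [hpc, show (0 : Fin 2).succ = 1 from rfl] at hfx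
        rw [hpc, show (1 : Fin 2).succ = 2 from rfl] at hfy
        have hFa : aeval ![(1 : k), a, b] F = 0 := by
          rw [← Homog.aeval_dehom, ← hG, Local.aeval_eq_zero_of hv hGz]
        have he := Diff.euler hhom hFa
        rw [Fin.sum_univ_three] at he
        refine hns fun l => ?_
        fin_cases l
        · simpa [hfx, hfy] using he
        · exact hfx
        · exact hfy
      have h0 : Q.1 (aeval ![x, y] (pderiv 0 G)) = 1 := Local.val_eq_one_of hv hfx
      have hch := congrArg Valued.v (eq_neg_of_add_eq_zero_left (Blowup.chain ψ hGz))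
      rw [Valuation.map_neg, map_mul, map_mul, hψ.1, hψ.1, h0, one_mul, hp 1] at hch
      rw [hch]
      exact mul_le_of_le_one_right' (Blowup.val_D_le_one hψ (hxy1 1))
    · have h0 : Q.1 (aeval ![x, y] (pderiv 1 G)) = 1 := Local.val_eq_one_of hv hfy
      rw [hp 1] at h0
      exact (Blowup.val_D_le_one hψ (hxy1 0)).trans_eq h0.symm

theorem exists_perm : ∀ i j : Fin 3, i ≠ j → ∃ σ : Equiv.Perm (Fin 3), σ 0 = j ∧ σ 1 = i := by
  decide

theorem main [IsAlgClosed k] (hK : FunFld.IsFunctionField k K) (x y : K)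
    (hxy : IntermediateField.adjoin k ({x, y} : Set K) = ⊤) (f : MvPolynomial (Fin 2) k)
    (hf : Irreducible f) (hfxy : aeval ![x, y] f = 0) (Q : _root_.FunFld.Place k K)
    (ψ : K →ₐ[k] LaurentSeries k) (hψ : LocRes.IsExpansionAt Q.1 ψ)
    (hne : LocRes.vDiff ψ (aeval ![x, y] (pderiv 1 f))⁻¹ x ≠ 0) :
    0 ≤ ((_root_.FunFld.mapDiv k ![(1 : K), x, y]).deg - 3) * _root_.FunFld.mapDiv k ![(1 : K), x, y] Q -
        LocRes.ordDiff ψ (aeval ![x, y] (pderiv 1 f))⁻¹ x ∧
    (((_root_.FunFld.mapDiv k ![(1 : K), x, y]).deg - 3) * _root_.FunFld.mapDiv k ![(1 : K), x, y] Q -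
        LocRes.ordDiff ψ (aeval ![x, y] (pderiv 1 f))⁻¹ x = 0 ↔
      _root_.FunFld.IsNonsingularAt ![(1 : K), x, y] Q) := by
  classical
  obtain ⟨-, hdeg, -, -, -⟩ := Plane.exists_model hK x y hxy f hf hfxy
  rw [hdeg]
  set e := f.totalDegree
  set F := Homog.hom e f with hFdef
  have hhom : F.IsHomogeneous e := Homog.hom_isHomogeneous le_rfl
  set φ : Fin 3 → K := ![(1 : K), x, y] with hφ
  have hFφ : aeval φ F = 0 := Homog.aeval_hom hfxy
  have hFirr : Irreducible F := (Homog.ker_eq_span hK hxy hf hfxy).2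
  have hfy : aeval φ (pderiv 2 F) = aeval ![x, y] (pderiv 1 f) := by
    conv_rhs => rw [← Homog.dehom_hom f e, pderiv_dehom, Homog.aeval_dehom]
    rfl
  rw [← hfy] at hne ⊢
  set g := aeval φ (pderiv 2 F)
  rw [LocRes.vDiff, Valuation.ne_zero_iff, mul_ne_zero_iff, map_ne_zero, ne_eq, inv_eq_zero] at hne
  obtain ⟨hg, hDx⟩ := hne
  obtain ⟨j, hj⟩ := Chart.exists_isMax (φ := φ) Q ⟨0, by simp [φ]⟩
  obtain ⟨i, hi⟩ : ∃ i, LocRes.D k (ψ (φ i / φ j)) ≠ 0 := by
    by_contra hcon
    simp only [not_exists, not_not] at hcon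
    apply hDx
    have h0 : φ 0 / φ j ≠ 0 := div_ne_zero (by simp [φ]) hj.1
    have he : φ 1 / φ j = x * (φ 0 / φ j) := by simp [φ, div_eq_mul_inv]
    have := hcon 1
    rw [he, map_mul, Derivation.leibniz, hcon 0, smul_zero, zero_add, smul_eq_mul, mul_eq_zero,
      map_eq_zero] at this
    exact this.resolve_left h0
  have hij : i ≠ j := fun h => hi (by
    rw [h, div_self hj.1, map_one, Derivation.map_one_eq_zero])
  obtain ⟨σ, hσ0, hσ1⟩ := exists_perm i j hij
  set A : Matrix (Fin 3) (Fin 3) k := Matrix.of fun r c => if σ c = r then 1 else 0 with hA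
  set u : Fin 3 → K := fun l => φ (σ l) with hu_def
  have hu : ∀ r, ∑ c, algebraMap k K (A r c) * u c = φ r := fun r => by
    rw [Finset.sum_eq_single (σ.symm r) (fun c _ hc => by
      have : σ c ≠ r := fun h => hc (by rw [← h, Equiv.symm_apply_apply])
      simp [hA, this]) (fun h => absurd (Finset.mem_univ _) h)]
    simp [hA, hu_def]
  have hdet : A.det ≠ 0 := by
    refine ((Matrix.isUnit_iff_isUnit_det A).mp (IsUnit.of_mul_eq_one A.transpose ?_)).ne_zero
    ext r c
    rw [Matrix.mul_apply, Finset.sum_eq_single (σ.symm r) (fun d _ hd => by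
      have : σ d ≠ r := fun h => hd (by rw [← h, Equiv.symm_apply_apply])
      simp [hA, this]) (fun h => absurd (Finset.mem_univ _) h)]
    simp [hA, Matrix.one_apply, eq_comm]
  have hsub : aeval (Diff.sub A) F = rename σ.symm F := by
    rw [rename_eq]
    congr 2
    funext r
    rw [Diff.sub, Finset.sum_eq_single (σ.symm r) (fun c _ hc => by
      have : σ c ≠ r := fun h => hc (by rw [← h, Equiv.symm_apply_apply])
      simp [hA, this]) (fun h => absurd (Finset.mem_univ _) h)]
    simp [hA]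
  have hu0 : u 0 ≠ 0 := by simp only [hu_def, hσ0]; exact hj.1
  set x' := u 1 / u 0 with hx'
  set y' := u 2 / u 0 with hy'
  set v : Fin 3 → K := fun l => φ l / φ j with hv_def
  have hw : ![(1 : K), x', y'] = v ∘ σ := by
    funext l
    fin_cases l <;> simp [hv_def, hx', hy', hu_def, hσ0, div_self hj.1]
  have hren : ∀ G : MvPolynomial (Fin 3) k, aeval ![(1 : K), x', y'] (rename σ.symm G) = aeval v G := by
    intro G
    rw [aeval_rename, hw, Function.comp_assoc, Equiv.self_comp_symm, Function.comp_id]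
  have hp : ∀ l, pderiv l (rename σ.symm F) = rename σ.symm (pderiv (σ l) F) := fun l => by
    conv_lhs => rw [← σ.symm_apply_apply l]
    rw [pderiv_rename σ.symm.injective]
  have hscale : ∀ {G : MvPolynomial (Fin 3) k} {m : ℕ}, G.IsHomogeneous m →
      aeval v G = (φ j)⁻¹ ^ m * aeval φ G := fun hG => by
    rw [← Diff.aeval_smul_homogeneous hG]
    congr 2
    funext l
    simp only [hv_def, div_eq_inv_mul]
  have hF'z : aeval ![(1 : K), x', y'] (rename σ.symm F) = 0 := by
    rw [hren, hscale hhom, hFφ, mul_zero]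
  have hxy' : IntermediateField.adjoin k ({x', y'} : Set K) = ⊤ := by
    rw [eq_top_iff, ← Plane.adjoin_ratios (PlaneGenus.adjoin_ratios_eq_top hxy (by simp [φ]))
      (by simp [φ]) hj.1, IntermediateField.adjoin_le_iff]
    rintro _ ⟨l, rfl⟩
    have hl : φ l / φ j = ![(1 : K), x', y'] (σ.symm l) := by
      rw [hw]; simp [hv_def]
    change φ l / φ j ∈ _
    rw [hl]
    generalize σ.symm l = m
    fin_cases m
    · exact one_mem _
    · exact IntermediateField.subset_adjoin k _ (by simp)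
    · exact IntermediateField.subset_adjoin k _ (by simp)
  have hDx' : LocRes.D k (ψ x') ≠ 0 := by
    simpa only [hx', hu_def, hσ0, hσ1] using hi
  set g' := aeval ![(1 : K), x', y'] (pderiv 2 (rename σ.symm F)) with hg'def
  have hg' : g' ≠ 0 := by
    intro h0
    have hdz : aeval ![x', y'] (Homog.dehom (rename σ.symm F)) = 0 := by rw [Homog.aeval_dehom, hF'z]
    have hch := Blowup.chain ψ hdz
    rw [pderiv_dehom, pderiv_dehom, Homog.aeval_dehom, Homog.aeval_dehom,
      show (1 : Fin 2).succ = 2 from rfl, ← hg'def, h0, map_zero, zero_mul, add_zero, mul_eq_zero,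
      map_eq_zero, show (0 : Fin 2).succ = 1 from rfl] at hch
    have h1 := hch.resolve_right hDx'
    have he := Diff.euler (hhom.rename_isHomogeneous (f := σ.symm)) hF'z
    rw [Fin.sum_univ_three] at he
    have hall : ∀ l, aeval ![(1 : K), x', y'] (pderiv l (rename σ.symm F)) = 0 := fun l => by
      fin_cases l
      · simpa [h1, ← hg'def, h0] using he
      · exact h1
      · exact h0
    have h2 := hall (σ.symm 2)
    rw [hp, Equiv.apply_symm_apply, hren, hscale hhom.pderiv, mul_eq_zero] at h2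
    exact hg (h2.resolve_left (pow_ne_zero _ (inv_ne_zero hj.1)))
  have hch := Diff.change F e hhom x y hFφ A u hu hu0 hg (by rw [hsub]; exact hg')
  rw [hsub, ← hx', ← hy', ← hg'def] at hch
  have hd : algebraMap k K A.det ≠ 0 := (map_ne_zero _).mpr hdet
  have hz : (u 0)⁻¹ ^ ((e : ℤ) - 3) ≠ 0 := zpow_ne_zero _ (inv_ne_zero hu0)
  have hΔ : ((e : ℤ) - 3) * _root_.FunFld.mapDiv k φ Q - LocRes.ordDiff ψ g⁻¹ x =
      Q.ord g' - LocRes.ordDiff ψ 1 x' := by
    have key : LocRes.ordDiff ψ g⁻¹ x =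
        LocRes.ordDiff ψ (algebraMap k K A.det * (u 0)⁻¹ ^ ((e : ℤ) - 3) * g'⁻¹) x' := by
      simp only [LocRes.ordDiff, LocRes.vDiff]
      rw [Adjoint.D_of_smul_eq ψ hch]
    rw [key, Adjoint.ordDiff_mul hψ (mul_ne_zero (mul_ne_zero hd hz) (inv_ne_zero hg')) hDx',
      Place.ord_mul Q (mul_ne_zero hd hz) (inv_ne_zero hg'), Place.ord_mul Q hd hz,
      Place.ord_algebraMap, Place.ord_zpow, Place.ord_inv, Place.ord_inv,
      PlaneGenus.mapDiv_of_isMax hK hj, show u 0 = φ j by simp only [hu_def, hσ0]]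
    ring
  rw [hΔ]
  have hx1 : Q.1 x' ≤ 1 := by simp only [hx', hu_def, hσ0]; exact Chart.val_ratio_le hj _
  have hy1 : Q.1 y' ≤ 1 := by simp only [hy', hu_def, hσ0]; exact Chart.val_ratio_le hj _
  obtain ⟨a, ha⟩ := Chart.exists_const hK Q hx1
  obtain ⟨b, hb⟩ := Chart.exists_const hK Q hy1
  obtain ⟨h1, h2⟩ := affine hK hψ hxy' (hhom.rename_isHomogeneous (f := σ.symm)) hF'z hDx' ha hb
  rw [← hg'def, Place.val_eq_exp Q hg'] at h1 h2
  have hvD : Valued.v (LocRes.D k (ψ x')) = exp (-LocRes.ordDiff ψ 1 x') := by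
    rw [LocRes.ordDiff, neg_neg, LocRes.vDiff, map_one, one_mul,
      exp_log ((Valuation.ne_zero_iff _).mpr hDx')]
  rw [hvD, exp_le_exp] at h1
  rw [hvD, exp_inj] at h2
  refine ⟨by omega, ?_⟩
  set c : Fin 3 → k := ![(1 : k), a, b] ∘ σ.symm with hc
  have hcv : ∀ l, Q.1 (φ l / φ j - algebraMap k K (c l)) < 1 := by
    intro l
    have hl : φ l / φ j = ![(1 : K), x', y'] (σ.symm l) := by
      rw [hw]; simp [hv_def]
    rw [hl, hc, Function.comp_apply]
    generalize σ.symm l = m
    fin_cases m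
    · simp
    · exact ha
    · exact hb
  have hs := Plane.iff_singular hK (φ := φ) (by simp [φ])
    (PlaneGenus.adjoin_ratios_eq_top hxy (by simp [φ])) hFirr hhom hFφ hj hcv
  have hrc : ∀ G : MvPolynomial (Fin 3) k,
      aeval ![(1 : k), a, b] (rename σ.symm G) = aeval c G := fun G => by rw [aeval_rename, hc]
  rw [show (Q.ord g' - LocRes.ordDiff ψ 1 x' = 0) ↔ (-Q.ord g' = -LocRes.ordDiff ψ 1 x') by omega, h2]
  constructor
  · intro h
    by_contra hns
    exact h fun l => by rw [hp, hrc]; exact hs.mp hns _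
  · intro hns hall
    refine hs.mpr (fun l => ?_) hns
    rw [← hrc, ← σ.apply_symm_apply l, ← hp]
    exact hall _

end Groth.Agent.Lib.FunFld.PlaneCurve.AdjointNonneg
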