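import Groth.Agent.Lib.FunFld.PlaneCurve.Local
import Groth.Agent.Lib.FunFld.Approx
import Groth.Agent.Lib.FunFld.Hasse.Wdiv
import Mathlib.RingTheory.Localization.AtPrime.Basic

/-! Intersection multiplicities with a plane curve. -/

namespace Groth.Agent.Lib.FunFld.PlaneCurve.Multiplicity

open WithZero
open Groth.Agent.Lib.FunFld Groth.Agent.Lib.FunFld.LinSys

universe u v
variable {k : Type u} [Field k] [IsAlgClosed k] {K : Type v} [Field K] [Algebra k K]

local notation "Pl" => _root_.FunFld.Place k K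

/-- Coefficients below a bound at finitely many places. -/
noncomputable def coeffMap (Φ : _root_.FunFld.Place k K → (K →ₐ[k] LaurentSeries k))
    (S : Finset (_root_.FunFld.Place k K)) (b : _root_.FunFld.Place k K → ℕ) :
    K →ₗ[k] ((Σ Q : S, Fin (b Q.1)) → k) where
  toFun z i := (Φ i.1.1 z).coeff (i.2 : ℕ)
  map_add' x y := funext fun i => by simp
  map_smul' c x := funext fun i => by
    simp only [Algebra.smul_def, map_mul, LocRes.map_algebraMap, HahnSeries.C_mul_eq_smul,
      HahnSeries.coeff_smul, RingHom.id_apply, Pi.mul_apply, Pi.algebraMap_apply,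
      Algebra.algebraMap_self, smul_eq_mul]

omit [IsAlgClosed k] in
theorem coeffMap_eq_zero_iff {Φ : _root_.FunFld.Place k K → (K →ₐ[k] LaurentSeries k)}
    (hΦ : ∀ P : Pl, LocRes.IsExpansionAt P.1 (Φ P)) {S : Finset Pl} {b : Pl → ℕ} {z : K}
    (hz : ∀ Q ∈ S, Q.1 z ≤ 1) :
    coeffMap Φ S b z = 0 ↔ ∀ Q ∈ S, Q.1 z ≤ exp (-(b Q : ℤ)) := by
  constructor
  · intro h Q hQ
    refine (Hasse.Local.val_le_iff (hΦ Q) _).mpr fun m hm => ?_
    rcases lt_or_ge m 0 with h0 | h0
    · exact (Hasse.Local.val_le_iff (hΦ Q) 0).mp (by simpa using hz Q hQ) m h0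
    · have := congrFun h ⟨⟨Q, hQ⟩, ⟨m.toNat, by dsimp only; omega⟩⟩
      simp only [coeffMap, LinearMap.coe_mk, AddHom.coe_mk, Pi.zero_apply] at this
      rwa [Int.toNat_of_nonneg h0] at this
  · intro h
    funext i
    exact (Hasse.Local.val_le_iff (hΦ i.1.1) _).mp (h i.1.1 i.1.2) _ (by exact_mod_cast i.2.isLt)

theorem exists_coeffMap_eq (hK : FunFld.IsFunctionField k K)
    {Φ : _root_.FunFld.Place k K → (K →ₐ[k] LaurentSeries k)}
    (hΦ : ∀ P : Pl, LocRes.IsExpansionAt P.1 (Φ P))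
    (hΦt : ∀ P : Pl, ∃ t, P.1 t = exp (-1) ∧ Φ P t = HahnSeries.single 1 1)
    (S : Finset Pl) (b : Pl → ℕ) (c : (Σ Q : S, Fin (b Q.1)) → k) :
    ∃ z : K, (∀ Q ∈ S, Q.1 z ≤ 1) ∧ coeffMap Φ S b z = c := by
  classical
  choose t ht htX using hΦt
  let tgt : Pl → K := fun Q =>
    if hQ : Q ∈ S then ∑ m : Fin (b Q), algebraMap k K (c ⟨⟨Q, hQ⟩, m⟩) * t Q ^ (m : ℕ) else 0
  obtain ⟨z, hz⟩ := Approx.approximation S tgt (fun Q => -(b Q : ℤ))
  have hb : ∀ Q : Pl, Q.1 (tgt Q) ≤ 1 := by
    intro Q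
    simp only [tgt]
    split_ifs with hQ
    · refine Q.1.map_sum_le fun m _ => ?_
      rw [map_mul, map_pow]
      exact mul_le_one' (Q.2.1 _) (pow_le_one' (by rw [ht, ← exp_zero, exp_le_exp]; norm_num) _)
    · simp
  have hle : ∀ Q ∈ S, Q.1 z ≤ 1 := by
    intro Q hQ
    have := Q.1.map_add_le ((hz Q hQ).trans (by rw [← exp_zero, exp_le_exp]; omega)) (hb Q)
    rwa [sub_add_cancel] at this
  refine ⟨z, hle, funext fun ⟨⟨Q, hQ⟩, m⟩ => ?_⟩
  have h1 := (Hasse.Local.val_le_iff (hΦ Q) _).mp (hz Q hQ) (m : ℕ) (by exact_mod_cast m.isLt)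
  simp only [tgt, dif_pos hQ, map_sub, HahnSeries.coeff_sub, sub_eq_zero] at h1
  simp only [coeffMap, LinearMap.coe_mk, AddHom.coe_mk]
  rw [h1, map_sum, HahnSeries.coeff_sum, Finset.sum_eq_single m]
  · simp only [map_mul, map_pow, htX, LocRes.map_algebraMap, HahnSeries.single_pow,
      HahnSeries.C_mul_eq_smul, HahnSeries.coeff_smul]
    simp
  · intro m' _ hne
    have : (m : ℤ) ≠ (m' : ℕ) := by
      intro h; exact hne (Fin.ext (by omega))
    simp only [map_mul, map_pow, htX, LocRes.map_algebraMap, HahnSeries.single_pow,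
      HahnSeries.C_mul_eq_smul, HahnSeries.coeff_smul]
    simp [this]
  · simp

/-- The colength of a principal ideal in a subring containing a conductor. -/
theorem finrank_quot (hK : FunFld.IsFunctionField k K) (S : Finset Pl) (R : Subalgebra k K) (N : ℕ)
    (hR : ∀ r ∈ R, ∀ Q ∈ S, Q.1 r ≤ 1)
    (hN : ∀ z : K, (∀ Q ∈ S, Q.1 z ≤ exp (-(N : ℤ))) → z ∈ R) {G : K} (hG : G ∈ R) (hG0 : G ≠ 0) :
    ∃ (M : Type (max u v)) (_ : AddCommGroup M) (_ : Module k M) (q : K →ₗ[k] M),
      (∀ m, ∃ r ∈ R, q r = m) ∧ (∀ r ∈ R, q r = 0 ↔ ∃ r' ∈ R, r = G * r') ∧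
      (Module.finrank k M : ℤ) = ∑ Q ∈ S, Q.ord G := by
  classical
  choose t ψ Ht ht hψ hψt hHt using fun P : Pl => Hasse.Wdiv.exists_local hK P
  set d : Pl → ℕ := fun Q => (Q.ord G).toNat
  have hd : ∀ Q ∈ S, (d Q : ℤ) = Q.ord G := fun Q hQ =>
    Int.toNat_of_nonneg ((Place.val_le_one_iff Q).mp (hR G hG Q hQ))
  have hval : ∀ Q ∈ S, Q.1 G = exp (-(d Q : ℤ)) := fun Q hQ => by rw [Place.val_eq_exp Q hG0, hd Q hQ]
  set L := coeffMap ψ S (fun Q => N + d Q)
  set L' := coeffMap ψ S (fun _ => N)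
  let p : ((Σ Q : S, Fin (N + d Q.1)) → k) →ₗ[k] ((Σ Q : S, Fin N) → k) :=
    LinearMap.funLeft k k fun i => ⟨i.1, Fin.castLE (Nat.le_add_right _ _) i.2⟩
  have hpL : ∀ z, p (L z) = L' z := fun z => funext fun i => rfl
  let mulG : K →ₗ[k] K := LinearMap.mulLeft k G
  set R1 : Submodule k ((Σ Q : S, Fin (N + d Q.1)) → k) := (Subalgebra.toSubmodule R).map L
  set R2 : Submodule k ((Σ Q : S, Fin (N + d Q.1)) → k) := (Subalgebra.toSubmodule R).map (L ∘ₗ mulG)
  have h21 : R2 ≤ R1 := by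
    rintro _ ⟨r, hr, rfl⟩
    exact ⟨G * r, show G * r ∈ R from mul_mem hG hr, rfl⟩
  have hker : ∀ z : K, (∀ Q ∈ S, Q.1 z ≤ 1) → L z = 0 → ∃ r ∈ R, z = G * r := by
    intro z hz h
    refine ⟨z / G, hN _ fun Q hQ => ?_, by field_simp⟩
    have := (coeffMap_eq_zero_iff hψ hz).mp h Q hQ
    rw [map_div₀, hval Q hQ, div_le_iff₀ (zero_lt_iff.mpr exp_ne_zero), ← exp_add]
    refine this.trans (exp_le_exp.mpr ?_)
    push_cast; omega
  refine ⟨R1.map R2.mkQ, inferInstance, inferInstance, ?_⟩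
  set q₀ : (Subalgebra.toSubmodule R) →ₗ[k] R1.map R2.mkQ :=
    ((R2.mkQ ∘ₗ L).restrict (q := R1.map R2.mkQ) fun r hr => ⟨L r, ⟨r, hr, rfl⟩, rfl⟩)
  obtain ⟨q, hq⟩ := LinearMap.exists_extend q₀
  have hq' : ∀ r (hr : r ∈ R), (q r : ((Σ Q : S, Fin (N + d Q.1)) → k) ⧸ R2) = R2.mkQ (L r) := by
    intro r hr
    have := DFunLike.congr_fun hq (⟨r, hr⟩ : Subalgebra.toSubmodule R)
    simp only [LinearMap.comp_apply, Submodule.subtype_apply] at this
    rw [this]
    rfl
  refine ⟨q, ?_, ?_, ?_⟩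
  · rintro ⟨_, w, ⟨r, hr, rfl⟩, rfl⟩
    exact ⟨r, hr, Subtype.ext (hq' r hr)⟩
  · intro r hr
    rw [← Subtype.coe_inj, hq' r hr, Submodule.coe_zero, Submodule.mkQ_apply, Submodule.Quotient.mk_eq_zero]
    constructor
    · rintro ⟨r', hr', he⟩
      obtain ⟨s, hs, hs'⟩ := hker (r - G * r') (fun Q hQ => hR _ (sub_mem hr (mul_mem hG hr')) Q hQ)
        (by rw [map_sub]; exact sub_eq_zero.mpr he.symm)
      exact ⟨r' + s, add_mem hr' hs, by rw [mul_add, ← hs']; ring⟩
    · rintro ⟨r', hr', rfl⟩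
      exact ⟨r', hr', rfl⟩
  · -- dimensions
    have e0 : Module.finrank k (R1.map R2.mkQ) + Module.finrank k R2 = Module.finrank k R1 := by
      have h := (R2.mkQ.domRestrict R1).finrank_range_add_finrank_ker
      rw [LinearMap.range_domRestrict, LinearMap.ker_domRestrict, Submodule.ker_mkQ,
        LinearEquiv.finrank_eq (Submodule.comapSubtypeEquivOfLe h21)] at h
      exact h
    have e1 : Module.finrank k R2 = Module.finrank k ((Subalgebra.toSubmodule R).map L') := by
      have hk : LinearMap.ker ((L ∘ₗ mulG).domRestrict (Subalgebra.toSubmodule R)) =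
          LinearMap.ker (L'.domRestrict (Subalgebra.toSubmodule R)) := by
        ext ⟨r, hr⟩
        rw [LinearMap.mem_ker, LinearMap.mem_ker]
        change L (G * r) = 0 ↔ L' r = 0
        rw [coeffMap_eq_zero_iff hψ (hR r hr), coeffMap_eq_zero_iff hψ (hR _ (mul_mem hG hr))]
        refine forall₂_congr fun Q hQ => ?_
        rw [map_mul, hval Q hQ, show exp (-((N + d Q : ℕ) : ℤ)) = exp (-(d Q : ℤ)) * exp (-(N : ℤ)) by
          rw [← exp_add]; push_cast; ring_nf, mul_le_mul_iff_right₀ (zero_lt_iff.mpr exp_ne_zero)]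
      have h1 := ((L ∘ₗ mulG).domRestrict (Subalgebra.toSubmodule R)).quotKerEquivRange.finrank_eq
      have h2 := (L'.domRestrict (Subalgebra.toSubmodule R)).quotKerEquivRange.finrank_eq
      rw [LinearMap.range_domRestrict] at h1 h2
      rw [hk] at h1
      exact h1.symm.trans h2
    have e2 : Module.finrank k R1 =
        Module.finrank k ((Subalgebra.toSubmodule R).map L') + Module.finrank k (LinearMap.ker p) := by
      have hle : LinearMap.ker p ≤ R1 := by
        intro c hc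
        obtain ⟨z, hz, hzc⟩ := exists_coeffMap_eq hK hψ (fun P => ⟨t P, ht P, hψt P⟩) S (fun Q => N + d Q) c
        refine ⟨z, hN z ((coeffMap_eq_zero_iff hψ hz).mp ?_), hzc⟩
        rw [LinearMap.mem_ker, ← hzc, hpL] at hc
        exact hc
      have h := (p.domRestrict R1).finrank_range_add_finrank_ker
      rw [LinearMap.range_domRestrict, LinearMap.ker_domRestrict,
        LinearEquiv.finrank_eq (Submodule.comapSubtypeEquivOfLe hle)] at h
      rw [← h, ← Submodule.map_comp, show p ∘ₗ L = L' from LinearMap.ext hpL]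
    have e3 : Module.finrank k (LinearMap.ker p) = ∑ Q : S, d Q.1 := by
      have hs : Function.Surjective p := LinearMap.funLeft_surjective_of_injective k k _ (by
        rintro ⟨Q, m⟩ ⟨Q', m'⟩ h
        simp only [Sigma.mk.injEq] at h
        obtain ⟨rfl, h2⟩ := h
        rw [Fin.castLE_injective _ (eq_of_heq h2)])
      have h := p.finrank_range_add_finrank_ker
      rw [LinearMap.range_eq_top.mpr hs, finrank_top, Module.finrank_pi, Module.finrank_pi] at h
      simp only [Fintype.card_sigma, Fintype.card_fin, Finset.sum_add_distrib] at h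
      omega
    have e4 : Module.finrank k (R1.map R2.mkQ) = ∑ Q : S, d Q.1 := by omega
    rw [e4, Nat.cast_sum, ← Finset.sum_coe_sort S]
    exact Finset.sum_congr rfl fun Q _ => hd Q.1 Q.2

/-- The local ring of a place's image as a subalgebra. -/
def locRing {ι : Type*} {φ : ι → K} {j : ι} {P : _root_.FunFld.Place k K} (hj : Chart.IsMax φ j P) :
    Subalgebra k K where
  carrier := {z | _root_.FunFld.InLocRing φ P z}
  mul_mem' := Chart.locRing_mul hj
  one_mem' := Chart.locRing_of_mem hj (one_mem _)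
  add_mem' := Chart.locRing_add hj
  zero_mem' := Chart.locRing_of_mem hj (zero_mem _)
  algebraMap_mem' c := Chart.locRing_of_mem hj ((Chart.ring k φ j).algebraMap_mem c)

/-- The intersection multiplicity is the colength in the local ring of the plane. -/
theorem main (hK : FunFld.IsFunctionField k K) (x y : K)
    (hxy : IntermediateField.adjoin k ({x, y} : Set K) = ⊤) (f g : MvPolynomial (Fin 2) k)
    (hf : Irreducible f) (hfxy : MvPolynomial.aeval ![x, y] f = 0)
    (hgxy : MvPolynomial.aeval ![x, y] g ≠ 0) (P : Pl) (c : Fin 2 → k)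
    (hc : ∀ i, P.1 (![x, y] i - algebraMap k K (c i)) < 1)
    (M : Ideal (MvPolynomial (Fin 2) k)) [M.IsMaximal]
    (hM : M = Ideal.span {MvPolynomial.X 0 - MvPolynomial.C (c 0),
      MvPolynomial.X 1 - MvPolynomial.C (c 1)}) :
    ∑ᶠ Q ∈ {Q : Pl | _root_.FunFld.SameImage ![(1 : K), x, y] P Q},
        Q.ord (MvPolynomial.aeval ![x, y] g) =
      (Module.finrank k (Localization.AtPrime M ⧸
        Ideal.map (algebraMap (MvPolynomial (Fin 2) k) (Localization.AtPrime M))
          (Ideal.span {f, g})) : ℤ) := by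
  classical
  set φ : Fin 3 → K := ![(1 : K), x, y] with hφ
  set ev : MvPolynomial (Fin 2) k →ₐ[k] K := MvPolynomial.aeval ![x, y]
  have hle : ∀ i, P.1 (![x, y] i) ≤ 1 := Local.val_le_one_of_near hc
  have hj : Chart.IsMax φ 0 P := ⟨by simp [φ], fun i => by
    fin_cases i
    · exact le_rfl
    · simpa [φ] using hle 0
    · simpa [φ] using hle 1⟩
  have htop := PlaneGenus.adjoin_ratios_eq_top hxy (j := 0) (by simp)
  have hring : Chart.ring k φ 0 = ev.range := by
    rw [show ev.range = Algebra.adjoin k (Set.range ![x, y]) from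
      (Algebra.adjoin_range_eq_range_aeval k ![x, y]).symm, Chart.ring]
    refine le_antisymm (Algebra.adjoin_le ?_) (Algebra.adjoin_le ?_)
    · rintro _ ⟨i, rfl⟩
      fin_cases i
      · simp [φ]
      · exact Algebra.subset_adjoin ⟨0, by simp [φ]⟩
      · exact Algebra.subset_adjoin ⟨1, by simp [φ]⟩
    · rintro _ ⟨i, rfl⟩
      fin_cases i
      · exact Algebra.subset_adjoin ⟨1, by simp [φ]⟩
      · exact Algebra.subset_adjoin ⟨2, by simp [φ]⟩
  have hmem : ∀ q, q ∉ M → MvPolynomial.aeval c q ≠ 0 := by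
    intro q hq h0
    obtain ⟨H, hH⟩ := Local.exists_decomp c q
    refine hq ?_
    rw [hH, h0, map_zero, zero_add, Fin.sum_univ_two, hM]
    exact add_mem (Ideal.mul_mem_right _ _ (Ideal.subset_span (by simp)))
      (Ideal.mul_mem_right _ _ (Ideal.subset_span (by simp)))
  have hval : ∀ q, q ∉ M → P.1 (ev q) = 1 := fun q hq => Local.val_eq_one_of hc (hmem q hq)
  have hunit : ∀ s : M.primeCompl, IsUnit (ev s) := fun s =>
    (Ne.isUnit fun h => by
      have := hval s.1 s.2
      rw [h, map_zero] at this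
      exact zero_ne_one this)
  let Φ : Localization.AtPrime M →ₐ[k] K := IsLocalization.liftAlgHom (f := ev) hunit
  have hΦ : ∀ a (s : M.primeCompl), Φ (IsLocalization.mk' _ a s) * ev s = ev a := by
    intro a s
    rw [mul_comm, IsLocalization.liftAlgHom_apply]
    exact ((IsLocalization.lift_mk'_spec _ _ _ _).mp rfl).symm
  set R := locRing hj
  have hΦR : ∀ z, Φ z ∈ R := by
    intro z
    obtain ⟨a, s, rfl⟩ := IsLocalization.exists_mk'_eq M.primeCompl z
    exact (Chart.mem_locRing_iff hj _).mpr ⟨ev a, hring ▸ ⟨a, rfl⟩, ev s, hring ▸ ⟨s, rfl⟩,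
      hval _ s.2, hΦ a s⟩
  have hΦs : ∀ r ∈ R, ∃ z, Φ z = r := by
    intro r hr
    obtain ⟨u, hu, w, hw, hw1, he⟩ := (Chart.mem_locRing_iff hj r).mp hr
    rw [hring] at hu hw
    obtain ⟨a, rfl⟩ := hu
    obtain ⟨s, rfl⟩ := hw
    have hs : s ∉ M := by
      intro hsM
      have : P.1 (ev s) < 1 := by
        rw [hM, Ideal.mem_span_pair] at hsM
        obtain ⟨A, B, rfl⟩ := hsM
        have hA := Local.val_aeval_le_one hle A
        have hB := Local.val_aeval_le_one hle B
        simp only [ev, map_add, map_mul, map_sub, MvPolynomial.aeval_X, MvPolynomial.aeval_C]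
        refine P.1.map_add_lt ?_ ?_ <;> rw [map_mul]
        · exact (mul_le_of_le_one_left' hA).trans_lt (hc 0)
        · exact (mul_le_of_le_one_left' hB).trans_lt (hc 1)
      exact this.ne hw1
    refine ⟨IsLocalization.mk' _ a (⟨s, hs⟩ : M.primeCompl), ?_⟩
    have h0 : ev s ≠ 0 := fun h => by rw [show (ev.toRingHom s : K) = ev s from rfl, h, map_zero] at hw1; exact zero_ne_one hw1
    exact mul_right_cancel₀ h0 ((hΦ a ⟨s, hs⟩).trans he.symm)
  obtain ⟨N, hN⟩ := Nonsingular.exists_bound_locRing hK hj htop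
  have hfin : {Q : Pl | _root_.FunFld.SameImage φ P Q}.Finite := by
    obtain ⟨i, hi⟩ : ∃ i, ![x, y] i - algebraMap k K (c i) ≠ 0 := by
      by_contra hcon
      simp only [not_exists, not_not, sub_eq_zero] at hcon
      rcases Homog.transcendental_or hK hxy with h | h
      · exact Bound.not_mem_range_of_transcendental h ⟨c 0, (hcon 0).symm⟩
      · exact Bound.not_mem_range_of_transcendental h ⟨c 1, (hcon 1).symm⟩
    refine (Degree.finite_zeros hK _).subset (s := {Q : Pl | 0 < Q.ord (![x, y] i - algebraMap k K (c i))})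
      fun Q hQ => ?_
    have hm : ev (MvPolynomial.X i - MvPolynomial.C (c i)) ∈ Chart.ring k φ 0 := hring ▸ ⟨_, rfl⟩
    obtain ⟨-, h2⟩ := Chart.locRing_of_sameImage hQ (Chart.locRing_of_mem hj hm)
    simp only [ev, map_sub, MvPolynomial.aeval_X, MvPolynomial.aeval_C] at h2
    have := ((Place.val_lt_one_iff Q).mp (h2.mpr (hc i))).resolve_left hi
    simp only [Set.mem_ofPred_eq]; omega
  have hG : ev g ∈ R := Chart.locRing_of_mem hj (hring ▸ ⟨g, rfl⟩)
  obtain ⟨V, _, _, q, hq1, hq2, hq3⟩ := finrank_quot hK hfin.toFinset R N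
    (fun r hr Q hQ => (Chart.locRing_of_sameImage (hfin.mem_toFinset.mp hQ) hr).1)
    (fun z hz => hN z fun Q hQ => hz Q (hfin.mem_toFinset.mpr hQ)) hG hgxy
  set I := Ideal.map (algebraMap (MvPolynomial (Fin 2) k) (Localization.AtPrime M)) (Ideal.span {f, g})
  have hsurj : Function.Surjective (q ∘ₗ Φ.toLinearMap) := fun m => by
    obtain ⟨r, hr, rfl⟩ := hq1 m
    obtain ⟨z, rfl⟩ := hΦs r hr
    exact ⟨z, rfl⟩
  have hker : LinearMap.ker (q ∘ₗ Φ.toLinearMap) = I.restrictScalars k := by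
    ext z
    rw [LinearMap.mem_ker, LinearMap.comp_apply, AlgHom.toLinearMap_apply, hq2 _ (hΦR z),
      Submodule.restrictScalars_mem]
    constructor
    · rintro ⟨r', hr', he⟩
      obtain ⟨z', rfl⟩ := hΦs r' hr'
      have hgI : algebraMap _ (Localization.AtPrime M) g ∈ I :=
        Ideal.mem_map_of_mem _ (Ideal.subset_span (by simp))
      have hfI : algebraMap _ (Localization.AtPrime M) f ∈ I :=
        Ideal.mem_map_of_mem _ (Ideal.subset_span (by simp))
      set w := z - algebraMap _ (Localization.AtPrime M) g * z'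
      have hw : Φ w = 0 := by
        rw [map_sub, map_mul, show Φ (algebraMap _ _ g) = ev g from IsLocalization.lift_eq _ g, he, sub_self]
      obtain ⟨a, s, hws⟩ := IsLocalization.exists_mk'_eq M.primeCompl w
      have ha : ev a = 0 := by rw [← hΦ a s, hws, hw, zero_mul]
      obtain ⟨b, hb⟩ := Homog.dvd_of_aeval_eq_zero hK hxy hf hfxy ha
      have hwI : w ∈ I := by
        rw [← hws, IsLocalization.mk'_eq_mul_mk'_one, hb, map_mul]
        exact Ideal.mul_mem_right _ _ (Ideal.mul_mem_right _ _ hfI)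
      have hz : z = w + algebraMap _ (Localization.AtPrime M) g * z' := (sub_add_cancel _ _).symm
      rw [hz]
      exact add_mem hwI (Ideal.mul_mem_right _ _ hgI)
    · intro hz
      simp only [I, Ideal.map_span, Set.image_pair, Ideal.mem_span_pair] at hz
      obtain ⟨A, B, rfl⟩ := hz
      refine ⟨Φ B, hΦR B, ?_⟩
      rw [map_add, map_mul, map_mul,
        show Φ (algebraMap _ _ f) = ev f from IsLocalization.lift_eq _ f,
        show Φ (algebraMap _ _ g) = ev g from IsLocalization.lift_eq _ g,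
        show ev f = 0 from hfxy, mul_zero, zero_add, mul_comm]
  rw [finsum_mem_eq_finite_toFinset_sum _ hfin, ← hq3]
  norm_cast
  exact (LinearMap.quotKerEquivOfSurjective _ hsurj).finrank_eq.symm.trans
    ((Submodule.quotEquivOfEq _ _ hker).finrank_eq.trans
      (Submodule.Quotient.restrictScalarsEquiv k I).finrank_eq)

end Groth.Agent.Lib.FunFld.PlaneCurve.Multiplicity
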