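import Groth.Agent.Lib.FunFld.PlaneCurve.Local
import Groth.Agent.Lib.FunFld.PlaneCurve.Adjoint
import Groth.Agent.Lib.FunFld.PlaneCurve.Multiplicity

/-! `ord f_y ≥ ord dx` at a branch of a plane curve, by blowing up. -/

namespace Groth.Agent.Lib.FunFld.PlaneCurve.Blowup

open WithZero MvPolynomial
open Groth.Agent.Lib.FunFld Groth.Agent.Lib.FunFld.LinSys

universe u v
variable {k : Type u} [Field k] {K : Type v} [Field K] [Algebra k K]

variable (k) in
/-- `k[x, y]`. -/
abbrev ring2 (x y : K) : Subalgebra k K := Algebra.adjoin k ({x, y} : Set K)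

/-- `k[x, y]` is dense in a power of the maximal ideal. -/
def HasConductor (Q : _root_.FunFld.Place k K) (x y : K) (N : ℕ) : Prop :=
  ∀ (L : ℕ) (z : K), Q.1 z ≤ exp (-(N : ℤ)) → ∃ r ∈ ring2 k x y, Q.1 (z - r) ≤ exp (-(L : ℤ))

theorem range_eq_ring2 (x y : K) : (aeval (R := k) ![x, y]).range = ring2 k x y := by
  rw [← Algebra.adjoin_range_eq_range_aeval, Matrix.range_cons, Matrix.range_cons, Matrix.range_empty,
    Set.union_empty]
  rfl

theorem val_le_one_of_mem {Q : _root_.FunFld.Place k K} {x y z : K} (hx : Q.1 x ≤ 1) (hy : Q.1 y ≤ 1)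
    (hz : z ∈ ring2 k x y) : Q.1 z ≤ 1 := by
  rw [← range_eq_ring2] at hz
  obtain ⟨F, rfl⟩ := hz
  exact Local.val_aeval_le_one (fun i => by fin_cases i <;> assumption) F

theorem val_pow_s {Q : _root_.FunFld.Place k K} {s : K} {e : ℕ} (he : Q.1 s = exp (-(e : ℤ))) (i : ℕ) :
    Q.1 (s ^ i) = exp (-((e * i : ℕ) : ℤ)) := by
  rw [map_pow, he, ← exp_nsmul]
  congr 1
  push_cast [nsmul_eq_mul]
  ring

/-- Polynomials in an element of order `e` only have orders divisible by `e`. -/
theorem val_aeval_eq {Q : _root_.FunFld.Place k K} {s : K} {e : ℕ} (he : Q.1 s = exp (-(e : ℤ)))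
    (he1 : 1 ≤ e) (p : Polynomial k) (hp : p ≠ 0) :
    ∃ i : ℕ, Q.1 (Polynomial.aeval s p) = exp (-((e * i : ℕ) : ℤ)) := by
  obtain ⟨q, hq, hqd⟩ := Polynomial.exists_eq_pow_rootMultiplicity_mul_and_not_dvd p hp 0
  refine ⟨p.rootMultiplicity 0, ?_⟩
  rw [Polynomial.dvd_iff_isRoot, Polynomial.IsRoot] at hqd
  obtain ⟨r, hr⟩ := Polynomial.X_sub_C_dvd_sub_C_eval (a := (0 : k)) (p := q)
  have hs1 : Q.1 s < 1 := by rw [he, ← exp_zero, exp_lt_exp]; omega
  have hq1 : Q.1 (Polynomial.aeval s q) = 1 := by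
    refine (Chart.val_eq_one_iff_const Q (c := q.eval 0) ?_).mpr hqd
    have h1 := congrArg (Polynomial.aeval s) hr
    simp only [map_sub, Polynomial.aeval_C, map_mul, map_zero, sub_zero, Polynomial.aeval_X] at h1
    rw [h1, map_mul]
    refine (mul_le_of_le_one_right' ?_).trans_lt hs1
    rw [Polynomial.aeval_eq_sum_range]
    refine Q.1.map_sum_le fun n _ => ?_
    rw [Algebra.smul_def, map_mul, map_pow]
    exact mul_le_one' (Q.2.1 _) (pow_le_one' hs1.le n)
  conv_lhs => rw [hq]
  simp only [map_mul, map_pow, map_sub, Polynomial.aeval_X, Polynomial.aeval_C, map_zero, sub_zero,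
    hq1, mul_one, Polynomial.C_0]
  rw [← map_pow, val_pow_s he]

/-- The blow-up at a singular branch gives new functions modulo a power of the maximal ideal. -/
theorem not_mem_mod {Q : _root_.FunFld.Place k K} {x y : K} {N e : ℕ} (hN : HasConductor Q x y N)
    (hx : Q.1 x ≤ 1) (hy : Q.1 y ≤ 1) {a b : k} (he : Q.1 (x - algebraMap k K a) = exp (-(e : ℤ)))
    (he2 : 2 ≤ e) {y1 : K} (hy1 : Q.1 y1 ≤ 1)
    (hy1e : y = algebraMap k K b + (x - algebraMap k K a) * y1) :
    ¬ ∃ r ∈ ring2 k x y, Q.1 (y1 - r) ≤ exp (-(N : ℤ)) := by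
  rintro ⟨r, hr, hr1⟩
  set s := x - algebraMap k K a with hs
  have hs1 : Q.1 s ≤ exp (-1) := by rw [he, exp_le_exp]; omega
  have happ : ∀ L : ℕ, ∃ G ∈ ring2 k x y, Q.1 (y1 - G) ≤ exp (-(L : ℤ)) := fun L => by
    obtain ⟨r', hr', h'⟩ := hN L _ hr1
    exact ⟨r + r', add_mem hr hr', by rw [← sub_sub]; exact h'⟩
  have hpol : ∀ j : ℕ, ∀ z ∈ ring2 k x y,
      ∃ p : Polynomial k, Q.1 (z - Polynomial.aeval s p) ≤ exp (-(j : ℤ)) := by
    intro j
    induction j with
    | zero =>
      intro z hz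
      exact ⟨0, by simpa using val_le_one_of_mem hx hy hz⟩
    | succ j ih =>
      have hsp : ∀ p : Polynomial k, Q.1 (Polynomial.aeval s p) ≤ 1 := fun p => by
        rw [Polynomial.aeval_eq_sum_range]
        refine Q.1.map_sum_le fun n _ => ?_
        rw [Algebra.smul_def, map_mul, map_pow]
        exact mul_le_one' (Q.2.1 _) (pow_le_one' (hs1.trans (by rw [← exp_zero, exp_le_exp]; norm_num)) n)
      intro z hz
      induction hz using Algebra.adjoin_induction with
      | mem w hw =>
        rcases hw with rfl | rfl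
        · exact ⟨Polynomial.X + Polynomial.C a, by simp [hs]⟩
        · obtain ⟨G, hG, hG1⟩ := happ j
          obtain ⟨p, hp⟩ := ih G hG
          refine ⟨Polynomial.C b + Polynomial.X * p, ?_⟩
          rw [map_add, map_mul, Polynomial.aeval_C, Polynomial.aeval_X, hy1e,
            add_sub_add_left_eq_sub, ← mul_sub, map_mul,
            show exp (-((j + 1 : ℕ) : ℤ)) = exp (-1) * exp (-(j : ℤ)) by
              rw [← exp_add]; push_cast; ring_nf]
          refine mul_le_mul' hs1 ?_
          have := Q.1.map_add_le hG1 hp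
          rwa [sub_add_sub_cancel] at this
      | algebraMap c => exact ⟨Polynomial.C c, by simp⟩
      | add u w _ _ hu hw =>
        obtain ⟨p, hp⟩ := hu
        obtain ⟨q, hq⟩ := hw
        exact ⟨p + q, by rw [map_add, add_sub_add_comm]; exact Q.1.map_add_le hp hq⟩
      | mul u w hu' hw' hu hw =>
        obtain ⟨p, hp⟩ := hu
        obtain ⟨q, hq⟩ := hw
        refine ⟨p * q, ?_⟩
        rw [map_mul, show u * w - Polynomial.aeval s p * Polynomial.aeval s q =
          (u - Polynomial.aeval s p) * w + Polynomial.aeval s p * (w - Polynomial.aeval s q) by ring]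
        refine Q.1.map_add_le ?_ ?_ <;> rw [map_mul]
        · exact (mul_le_of_le_one_right' (val_le_one_of_mem hx hy hw')).trans hp
        · exact (mul_le_of_le_one_left' (hsp p)).trans hq
  have hdiv : ∀ n : ℕ, N ≤ n → e ∣ n := by
    intro n hn
    obtain ⟨z, hz⟩ := Place.exists_val_eq_exp Q (-(n : ℤ))
    obtain ⟨r', hr', h'⟩ := hN (n + 1) z (by rw [hz, exp_le_exp]; omega)
    obtain ⟨p, hp⟩ := hpol (n + 1) r' hr'
    have hlt : Q.1 (z - Polynomial.aeval s p) < Q.1 z := by
      rw [hz]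
      have := Q.1.map_add_le h' hp
      rw [sub_add_sub_cancel] at this
      exact this.trans_lt (exp_lt_exp.mpr (by omega))
    have heq : Q.1 (Polynomial.aeval s p) = exp (-(n : ℤ)) := by
      have := Q.1.map_sub_eq_of_lt_left hlt
      rwa [sub_sub_cancel, hz] at this
    rcases eq_or_ne p 0 with rfl | hp0
    · rw [map_zero, map_zero] at heq; exact absurd heq.symm exp_ne_zero
    obtain ⟨i, hi⟩ := val_aeval_eq he (by omega) p hp0
    rw [hi, exp_inj, neg_inj, Nat.cast_inj] at heq
    exact ⟨i, heq.symm⟩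
  have h := Nat.dvd_sub (hdiv (N + 1) (by omega)) (hdiv N le_rfl)
  rw [Nat.add_sub_cancel_left, Nat.dvd_one] at h
  omega

/-- The blow-up substitution. -/
noncomputable def blow (a b : k) : MvPolynomial (Fin 2) k →ₐ[k] MvPolynomial (Fin 2) k :=
  aeval ![X 0, C b + (X 0 - C a) * X 1]

theorem aeval_blow (a b : k) (x y1 : K) (F : MvPolynomial (Fin 2) k) :
    aeval ![x, y1] (blow a b F) =
      aeval ![x, algebraMap k K b + (x - algebraMap k K a) * y1] F := by
  rw [blow, ← AlgHom.comp_apply, comp_aeval]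
  congr 2
  funext i
  fin_cases i <;> simp

theorem pderiv_blow (a b : k) (F : MvPolynomial (Fin 2) k) :
    pderiv 1 (blow a b F) = blow a b (pderiv 1 F) * (X 0 - C a) := by
  classical
  rw [blow, Diff.derivation_aeval, Fin.sum_univ_two]
  simp [pderiv_mul]

theorem blow_factor (a b : k) {F : MvPolynomial (Fin 2) k} (h : aeval ![a, b] F = 0) :
    ∃ G, blow a b F = (X 0 - C a) * G ∧
      ((∀ i, aeval ![a, b] (pderiv i F) = 0) → ∃ G', G = (X 0 - C a) * G') := by
  obtain ⟨H, hH⟩ := Local.exists_decomp ![a, b] F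
  have hbl : ∀ T : MvPolynomial (Fin 2) k, aeval ![a, b] T = 0 → ∃ U, blow a b T = (X 0 - C a) * U := by
    intro T hT
    obtain ⟨J, hJ⟩ := Local.exists_decomp ![a, b] T
    refine ⟨blow a b (J 0) + X 1 * blow a b (J 1), ?_⟩
    conv_lhs => rw [hJ, hT]
    simp [Fin.sum_univ_two, blow]
    ring
  refine ⟨blow a b (H 0) + X 1 * blow a b (H 1), ?_, fun hsing => ?_⟩
  · conv_lhs => rw [hH, h]
    simp [Fin.sum_univ_two, blow]
    ring
  · obtain ⟨U0, h0⟩ := hbl (H 0) ((Local.eval_pderiv_decomp hH 0).trans (hsing 0))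
    obtain ⟨U1, h1⟩ := hbl (H 1) ((Local.eval_pderiv_decomp hH 1).trans (hsing 1))
    exact ⟨U0 + X 1 * U1, by rw [h0, h1]; ring⟩

/-- The chain rule in an expansion. -/
theorem chain (ψ : K →ₐ[k] LaurentSeries k) {x y : K} {F : MvPolynomial (Fin 2) k}
    (hF : aeval ![x, y] F = 0) :
    ψ (aeval ![x, y] (pderiv 0 F)) * LocRes.D k (ψ x) +
      ψ (aeval ![x, y] (pderiv 1 F)) * LocRes.D k (ψ y) = 0 := by
  let _ := ψ.toRingHom.toAlgebra
  have := LocRes.isScalarTower_exp ψ
  have h := Diff.derivation_aeval (LocRes.dExp ψ) ![x, y] F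
  rw [hF, map_zero, Fin.sum_univ_two] at h
  exact h.symm

theorem val_D_le_one {Q : _root_.FunFld.Place k K} {ψ : K →ₐ[k] LaurentSeries k}
    (hψ : LocRes.IsExpansionAt Q.1 ψ) {z : K} (hz : Q.1 z ≤ 1) :
    Valued.v (LocRes.D k (ψ z)) ≤ 1 := by
  obtain ⟨p, hp⟩ := Hasse.Formula.exists_powerSeries hψ hz
  rw [← hp, LocRes.D_coe]
  exact (LaurentSeries.val_le_one_iff_eq_coe k _).mpr ⟨_, rfl⟩

theorem D_const_sub (ψ : K →ₐ[k] LaurentSeries k) (x : K) (a : k) :
    LocRes.D k (ψ (x - algebraMap k K a)) = LocRes.D k (ψ x) := by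
  rw [map_sub, map_sub, LocRes.map_algebraMap, LocRes.D_apply k (HahnSeries.C _), LocRes.derivative_C,
    sub_zero]

theorem ring2_eq_of_mem {x y x' y' : K} (h1 : x ∈ ring2 k x' y') (h2 : y ∈ ring2 k x' y')
    (h3 : x' ∈ ring2 k x y) (h4 : y' ∈ ring2 k x y) : ring2 k x y = ring2 k x' y' :=
  le_antisymm (Algebra.adjoin_le (by rintro z (rfl | rfl); exacts [h1, h2]))
    (Algebra.adjoin_le (by rintro z (rfl | rfl); exacts [h3, h4]))

/-- The dimension of the image of `k[x, y]` modulo a power of the maximal ideal. -/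
noncomputable def dimMod (ψ : K →ₐ[k] LaurentSeries k) (N : ℕ) (x y : K) : ℕ :=
  Module.finrank k ((Subalgebra.toSubmodule (ring2 k x y)).map
    (LinearMap.pi fun m : Fin N =>
      ({ toFun := fun z => (ψ z).coeff (m : ℕ), map_add' := fun u w => by simp,
         map_smul' := fun c u => by
          simp only [Algebra.smul_def, map_mul, LocRes.map_algebraMap, HahnSeries.C_mul_eq_smul,
            HahnSeries.coeff_smul, RingHom.id_apply, Algebra.algebraMap_self, smul_eq_mul] } :
        K →ₗ[k] k)))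

/-- `ord F_y ≥ ord dx`, strictly at singular points. -/
theorem main {Q : _root_.FunFld.Place k K} {ψ : K →ₐ[k] LaurentSeries k}
    (hψ : LocRes.IsExpansionAt Q.1 ψ) (N : ℕ) :
    ∀ (m e : ℕ) (x y : K) (a b : k) (F : MvPolynomial (Fin 2) k),
      N - dimMod ψ N x y ≤ m → Q.1 (x - algebraMap k K a) = exp (-(e : ℤ)) → 1 ≤ e →
      Q.1 (y - algebraMap k K b) < 1 → HasConductor Q x y N → LocRes.D k (ψ x) ≠ 0 →
      aeval ![x, y] F = 0 →
      Q.1 (aeval ![x, y] (pderiv 1 F)) ≤ Valued.v (LocRes.D k (ψ x)) ∧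
      ((∀ i, aeval ![a, b] (pderiv i F) = 0) →
        Q.1 (aeval ![x, y] (pderiv 1 F)) ≤ exp (-1) * Valued.v (LocRes.D k (ψ x))) := by
  intro m
  induction m using Nat.strong_induction_on with
  | _ m ihm =>
  intro e
  induction e using Nat.strong_induction_on with
  | _ e ihe =>
  intro x y a b F hm he he1 hb hN hD hF
  set s := x - algebraMap k K a with hs
  have hs1 : Q.1 s < 1 := by rw [he, ← exp_zero, exp_lt_exp]; omega
  have hv : ∀ i, Q.1 (![x, y] i - algebraMap k K (![a, b] i)) < 1 := fun i => by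
    fin_cases i <;> assumption
  have hxy1 := Local.val_le_one_of_near hv
  have hx1 : Q.1 x ≤ 1 := hxy1 0
  have hy1 : Q.1 y ≤ 1 := hxy1 1
  rcases eq_or_lt_of_le he1 with rfl | he2
  · have hDx : Valued.v (LocRes.D k (ψ x)) = 1 := by
      rw [← D_const_sub ψ x a]
      exact Hasse.Diff.val_D_eq_one hψ hs1.le (Hasse.Diff.coeff_one_uniformizer hψ
        (by rw [← hs, he]; norm_num)).2
    rw [hDx, mul_one]
    refine ⟨Local.val_aeval_le_one hxy1 _, fun hsing => ?_⟩
    have := Local.val_aeval_sub_lt hv (pderiv 1 F)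
    rw [hsing 1, map_zero, sub_zero] at this
    exact Local.val_le_exp_neg_one this
  rcases le_or_gt (Q.1 (y - algebraMap k K b)) (exp (-(e : ℤ))) with hw | hw
  · -- blow up
    have hs0 : s ≠ 0 := fun h => exp_ne_zero (by rw [← he, h, map_zero])
    set y1 := (y - algebraMap k K b) / s with hy1def
    have hy1v : Q.1 y1 ≤ 1 := by
      rw [hy1def, map_div₀, he, div_le_one₀ (zero_lt_iff.mpr exp_ne_zero)]; exact hw
    have hye : y = algebraMap k K b + s * y1 := by rw [hy1def, mul_div_cancel₀ _ hs0]; ring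
    obtain ⟨b1, hb1⟩ : ∃ b1 : k, Q.1 (y1 - algebraMap k K b1) < 1 := by
      obtain ⟨p, hp⟩ := Hasse.Formula.exists_powerSeries hψ hy1v
      refine ⟨(ψ y1).coeff 0, lt_of_le_of_lt ((Hasse.Local.val_le_iff hψ 1).mpr fun n hn => ?_)
        (by rw [← exp_zero, exp_lt_exp]; norm_num)⟩
      rw [map_sub, HahnSeries.coeff_sub, LocRes.map_algebraMap]
      rcases lt_or_eq_of_le (show n ≤ 0 by omega) with hn0 | rfl
      · rw [(Hasse.Local.val_le_iff hψ 0).mp (by simpa using hy1v) n hn0, HahnSeries.C_apply,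
          HahnSeries.coeff_single_of_ne hn0.ne, sub_zero]
      · simp
    have hle : ring2 k x y ≤ ring2 k x y1 := Algebra.adjoin_le (by
      rintro z (rfl | rfl)
      · exact Algebra.subset_adjoin (by simp)
      · rw [hye]
        exact add_mem (Subalgebra.algebraMap_mem _ b) (mul_mem (sub_mem (Algebra.subset_adjoin (by simp))
          (Subalgebra.algebraMap_mem _ a)) (Algebra.subset_adjoin (by simp))))
    have hN1 : HasConductor Q x y1 N := fun L z hz => by
      obtain ⟨r, hr, h⟩ := hN L z hz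
      exact ⟨r, hle hr, h⟩
    have hdim : dimMod ψ N x y < dimMod ψ N x y1 := by
      refine Submodule.finrank_lt_finrank_of_lt (lt_of_le_of_ne (Submodule.map_mono fun z hz => hle hz) ?_)
      intro heq
      refine not_mem_mod hN hx1 hy1 he he2 hy1v hye ?_
      have hmem : y1 ∈ Subalgebra.toSubmodule (ring2 k x y1) := Algebra.subset_adjoin (by simp)
      have h2 := Submodule.mem_map_of_mem (f := (LinearMap.pi fun m : Fin N =>
        ({ toFun := fun z => (ψ z).coeff (m : ℕ), map_add' := fun u w => by simp,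
           map_smul' := fun c u => by
            simp only [Algebra.smul_def, map_mul, LocRes.map_algebraMap, HahnSeries.C_mul_eq_smul,
              HahnSeries.coeff_smul, RingHom.id_apply, Algebra.algebraMap_self, smul_eq_mul] } :
          K →ₗ[k] k))) hmem
      rw [← heq] at h2
      obtain ⟨r, hr, hre⟩ := h2
      refine ⟨r, hr, (Hasse.Local.val_le_iff hψ _).mpr fun n hn => ?_⟩
      rw [map_sub, HahnSeries.coeff_sub, sub_eq_zero]
      rcases lt_or_ge n 0 with hn0 | hn0
      · rw [(Hasse.Local.val_le_iff hψ 0).mp (by simpa using hy1v) n hn0,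
          (Hasse.Local.val_le_iff hψ 0).mp (by simpa using val_le_one_of_mem hx1 hy1 hr) n hn0]
      · have := congrFun hre ⟨n.toNat, by omega⟩
        simp only [LinearMap.pi_apply, LinearMap.coe_mk, AddHom.coe_mk, Int.toNat_of_nonneg hn0] at this
        exact this.symm
    have hlt : N - dimMod ψ N x y1 < m := by
      have hbound : dimMod ψ N x y1 ≤ N :=
        (Submodule.finrank_le _).trans (by simp)
      omega
    have hFa : aeval ![a, b] F = 0 := Local.aeval_eq_zero_of hv hF
    obtain ⟨G, hG, hG2⟩ := blow_factor a b hFa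
    have hsX : aeval ![x, y1] (X 0 - C a : MvPolynomial (Fin 2) k) = s := by simp [hs]
    have hGz : aeval ![x, y1] G = 0 := by
      have := congrArg (aeval ![x, y1]) hG
      rw [aeval_blow, map_mul, hsX, ← hs, ← hye, hF] at this
      exact (mul_eq_zero.mp this.symm).resolve_left hs0
    have hFy : aeval ![x, y] (pderiv 1 F) * s = s * aeval ![x, y1] (pderiv 1 G) := by
      have := congrArg (fun T => aeval ![x, y1] (pderiv 1 T)) hG
      simp only [pderiv_blow, map_mul, aeval_blow, hsX, pderiv_mul, map_add, map_sub, pderiv_X, pderiv_C,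
        sub_zero] at this
      rw [← hs, ← hye] at this
      rw [this]
      simp
    rw [mul_comm (aeval ![x, y] (pderiv 1 F)) s] at hFy
    rw [mul_left_cancel₀ hs0 hFy]
    obtain ⟨h1, -⟩ := ihm _ hlt e x y1 a b1 G le_rfl he he1 hb1 hN1 hD hGz
    refine ⟨h1, fun hsing => ?_⟩
    obtain ⟨G', hG'⟩ := hG2 hsing
    have hG'z : aeval ![x, y1] G' = 0 := by
      rw [hG', map_mul, hsX] at hGz
      exact (mul_eq_zero.mp hGz).resolve_left hs0
    obtain ⟨h1', -⟩ := ihm _ hlt e x y1 a b1 G' le_rfl he he1 hb1 hN1 hD hG'z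
    have e2 : aeval ![x, y1] (pderiv 1 G) = s * aeval ![x, y1] (pderiv 1 G') := by
      rw [hG', pderiv_mul, map_add, map_mul, map_mul, hG'z]
      simp [hs]
    rw [e2, map_mul]
    exact mul_le_mul' (Local.val_le_exp_neg_one hs1) h1'
  · -- exchange the coordinates
    obtain ⟨lam, hlam⟩ : ∃ lam : k, LocRes.D k (ψ (y + algebraMap k K lam * x)) ≠ 0 := by
      have he : ∀ lam : k, LocRes.D k (ψ (y + algebraMap k K lam * x)) =
          LocRes.D k (ψ y) + lam • LocRes.D k (ψ x) := fun lam => by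
        rw [map_add, map_add, map_mul, LocRes.map_algebraMap, Derivation.leibniz, LocRes.D_apply k (HahnSeries.C _),
          LocRes.derivative_C, smul_zero, add_zero, smul_eq_mul, HahnSeries.C_mul_eq_smul]
        simp
      rcases eq_or_ne (LocRes.D k (ψ y)) 0 with h0 | h0
      · exact ⟨1, by rw [he, h0, zero_add, one_smul]; exact hD⟩
      · exact ⟨0, by rw [he, zero_smul, add_zero]; exact h0⟩
    set y' := y + algebraMap k K lam * x with hy'
    set b' := b + lam * a
    set F' := (aeval ![(X 0 : MvPolynomial (Fin 2) k), X 1 - C lam * X 0] F : MvPolynomial (Fin 2) k) with hF'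
    have hsub : ∀ T : MvPolynomial (Fin 2) k,
        aeval ![x, y'] (aeval ![X 0, X 1 - C lam * X 0] T) = aeval ![x, y] T := by
      intro T
      rw [← AlgHom.comp_apply, comp_aeval]
      congr 2
      funext i
      fin_cases i <;> simp [hy']
    have hsubc : ∀ T : MvPolynomial (Fin 2) k,
        aeval ![a, b'] (aeval ![X 0, X 1 - C lam * X 0] T) = aeval ![a, b] T := by
      intro T
      rw [← AlgHom.comp_apply, comp_aeval]
      congr 2
      funext i
      fin_cases i <;> simp [b']
    have hd1 : pderiv 1 F' = aeval ![X 0, X 1 - C lam * X 0] (pderiv 1 F) := by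
      classical
      rw [hF', Diff.derivation_aeval, Fin.sum_univ_two]
      simp [pderiv_mul]
    have hd0 : pderiv 0 F' = aeval ![X 0, X 1 - C lam * X 0] (pderiv 0 F) -
        C lam * aeval ![X 0, X 1 - C lam * X 0] (pderiv 1 F) := by
      classical
      rw [hF', Diff.derivation_aeval, Fin.sum_univ_two]
      simp [pderiv_mul]
      ring
    have hwval : Q.1 (y' - algebraMap k K b') = Q.1 (y - algebraMap k K b) := by
      rw [show y' - algebraMap k K b' = (y - algebraMap k K b) + algebraMap k K lam * s by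
        simp only [hy', b', hs, map_add, map_mul]; ring]
      refine Q.1.map_add_eq_of_lt_left ?_
      rw [map_mul]
      exact (mul_le_of_le_one_left' (Q.2.1 lam)).trans_lt (he ▸ hw)
    have hb' : Q.1 (y' - algebraMap k K b') < 1 := hwval ▸ hb
    have hwn0 : y' - algebraMap k K b' ≠ 0 := fun h => by
      rw [← hwval, h, map_zero] at hw
      exact not_lt_of_ge zero_le hw
    set e' := (Q.ord (y' - algebraMap k K b')).toNat with he'def
    have he'' : 1 ≤ Q.ord (y' - algebraMap k K b') := ((Place.val_lt_one_iff Q).mp hb').resolve_left hwn0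
    have hlt : e' < e := by
      rw [← hwval, Place.val_eq_exp Q hwn0, exp_lt_exp] at hw
      omega
    have he' : Q.1 (y' - algebraMap k K b') = exp (-(e' : ℤ)) := by
      rw [Place.val_eq_exp Q hwn0, he'def, Int.toNat_of_nonneg (by omega)]
    have hring : ring2 k y' x = ring2 k x y := by
      refine ring2_eq_of_mem ?_ (Algebra.subset_adjoin (by simp)) (Algebra.subset_adjoin (by simp)) ?_
      · exact add_mem (Algebra.subset_adjoin (by simp))
          (mul_mem (Subalgebra.algebraMap_mem _ _) (Algebra.subset_adjoin (by simp)))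
      · have := sub_mem (Algebra.subset_adjoin (show y' ∈ ({y', x} : Set K) by simp) : y' ∈ ring2 k y' x)
          (mul_mem (Subalgebra.algebraMap_mem _ lam) (Algebra.subset_adjoin (show x ∈ ({y', x} : Set K) by simp)))
        simpa [hy'] using this
    set F'' := aeval ![(X 1 : MvPolynomial (Fin 2) k), X 0] F' with hF''
    have hswap : ∀ (u w : K) (T : MvPolynomial (Fin 2) k),
        aeval ![u, w] (aeval ![(X 1 : MvPolynomial (Fin 2) k), X 0] T) = aeval ![w, u] T := by
      intro u w T
      rw [← AlgHom.comp_apply, comp_aeval]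
      congr 2
      funext i
      fin_cases i <;> simp
    have hswapc : ∀ (u w : k) (T : MvPolynomial (Fin 2) k),
        aeval ![u, w] (aeval ![(X 1 : MvPolynomial (Fin 2) k), X 0] T) = aeval ![w, u] T := by
      intro u w T
      rw [← AlgHom.comp_apply, comp_aeval]
      congr 2
      funext i
      fin_cases i <;> simp
    have hd'' : ∀ i, pderiv i F'' = aeval ![(X 1 : MvPolynomial (Fin 2) k), X 0] (pderiv (![1, 0] i) F') := by
      classical
      intro i
      rw [hF'', Diff.derivation_aeval, Fin.sum_univ_two]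
      fin_cases i <;> simp
    have hF'z : aeval ![x, y'] F' = 0 := by rw [hF', hsub, hF]
    obtain ⟨h1, h2⟩ := ihe e' hlt y' x b' a F'' (by rw [dimMod, hring]; exact hm) he' (by omega)
      hs1 (fun L z hz => by rw [hring]; exact hN L z hz) hlam (by rw [hF'', hswap, hF'z])
    have hFy : aeval ![x, y'] (pderiv 1 F') = aeval ![x, y] (pderiv 1 F) := by rw [hd1, hsub]
    rw [hd'' 1, hswap] at h1 h2
    simp only [Matrix.cons_val_one, Matrix.cons_val_fin_one] at h1 h2
    have hch := congrArg Valued.v (eq_neg_of_add_eq_zero_left (chain ψ hF'z))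
    rw [Valuation.map_neg, map_mul, map_mul, hψ.1, hψ.1, hFy] at hch
    have hDy0 : 0 < Valued.v (LocRes.D k (ψ y')) := zero_lt_iff.mpr ((Valuation.ne_zero_iff _).mpr hlam)
    refine ⟨?_, fun hsing => ?_⟩
    · refine le_of_mul_le_mul_right ?_ hDy0
      rw [← hch, mul_comm (Valued.v (LocRes.D k (ψ x)))]
      exact mul_le_mul' h1 le_rfl
    · have hsing'' : ∀ i, aeval ![b', a] (pderiv i F'') = 0 := fun i => by
        rw [hd'' i, hswapc]
        fin_cases i
        · simp only [Fin.zero_eta, Fin.isValue, Matrix.cons_val_zero]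
          rw [hd1, hsubc, hsing 1]
        · simp only [Fin.mk_one, Fin.isValue, Matrix.cons_val_one, Matrix.cons_val_fin_one]
          rw [hd0, map_sub, map_mul, hsubc, hsubc, hsing 0, hsing 1]
          simp
      refine le_of_mul_le_mul_right ?_ hDy0
      rw [← hch, mul_assoc, mul_comm (Valued.v (LocRes.D k (ψ x))), ← mul_assoc]
      exact mul_le_mul' (h2 hsing'') le_rfl

/-- Existence of a conductor. -/
theorem exists_conductor [IsAlgClosed k] (hK : FunFld.IsFunctionField k K) {x y : K}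
    (hxy : IntermediateField.adjoin k ({x, y} : Set K) = ⊤) {Q : _root_.FunFld.Place k K}
    (hx : Q.1 x ≤ 1) (hy : Q.1 y ≤ 1) : ∃ N, HasConductor Q x y N := by
  classical
  set φ : Fin 3 → K := ![(1 : K), x, y]
  have hj : Chart.IsMax φ 0 Q := ⟨by simp [φ], fun i => by
    fin_cases i
    · exact le_rfl
    · simpa [φ] using hx
    · simpa [φ] using hy⟩
  have hring : Chart.ring k φ 0 = ring2 k x y := by
    refine le_antisymm (Algebra.adjoin_le ?_) (Algebra.adjoin_le ?_)
    · rintro _ ⟨i, rfl⟩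
      fin_cases i
      · simp [φ]
      · exact Algebra.subset_adjoin (by simp [φ])
      · exact Algebra.subset_adjoin (by simp [φ])
    · rintro _ (rfl | rfl)
      · exact Algebra.subset_adjoin ⟨1, by simp [φ]⟩
      · exact Algebra.subset_adjoin ⟨2, by simp [φ]⟩
  obtain ⟨N, hN⟩ := Nonsingular.exists_bound_locRing hK hj
    (PlaneGenus.adjoin_ratios_eq_top hxy (by simp))
  obtain ⟨i, c, hc, hc0⟩ : ∃ (i : Fin 3) (c : k), Q.1 (φ i - algebraMap k K c) < 1 ∧
      φ i - algebraMap k K c ≠ 0 := by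
    rcases Homog.transcendental_or hK hxy with h | h
    · obtain ⟨c, hc⟩ := Chart.exists_const hK Q hx
      exact ⟨1, c, hc, fun h0 => Bound.not_mem_range_of_transcendental h ⟨c, (sub_eq_zero.mp h0).symm⟩⟩
    · obtain ⟨c, hc⟩ := Chart.exists_const hK Q hy
      exact ⟨2, c, hc, fun h0 => Bound.not_mem_range_of_transcendental h ⟨c, (sub_eq_zero.mp h0).symm⟩⟩
  have hfin : {P : _root_.FunFld.Place k K | _root_.FunFld.SameImage φ Q P}.Finite :=
    (Degree.finite_zeros hK (φ i - algebraMap k K c)).subset fun P hP => by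
      have hm : φ i - algebraMap k K c ∈ Chart.ring k φ 0 := by
        have := Chart.ratio_mem (k := k) φ i 0
        rw [show φ 0 = 1 from rfl, div_one] at this
        exact sub_mem this ((Chart.ring k φ 0).algebraMap_mem c)
      have := ((Place.val_lt_one_iff P).mp
        ((Chart.locRing_of_sameImage hP (Chart.locRing_of_mem hj hm)).2.mpr hc)).resolve_left hc0
      simp only [Set.mem_ofPred_eq]; omega
  refine ⟨N, fun L z hz => ?_⟩
  obtain ⟨z', hz'⟩ := Approx.approximation hfin.toFinset (fun P => if P = Q then z else 0)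
    (fun P => if P = Q then -((max L N : ℕ) : ℤ) else -(N : ℤ))
  have hQmem : Q ∈ hfin.toFinset := hfin.mem_toFinset.mpr (Chart.sameImage_refl hK ⟨0, hj.1⟩ Q)
  have hzQ := hz' Q hQmem
  simp only [if_true] at hzQ
  have hzL : Q.1 (z' - z) ≤ exp (-(L : ℤ)) := hzQ.trans (exp_le_exp.mpr (by omega))
  have hmem := hN z' fun P hP => by
    have h1 := hz' P (hfin.mem_toFinset.mpr hP)
    rcases eq_or_ne P Q with rfl | hne
    · simp only [if_true] at h1
      have := P.1.map_add_le (h1.trans (exp_le_exp.mpr (show -((max L N : ℕ) : ℤ) ≤ -(N : ℤ) by omega))) hz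
      rwa [sub_add_cancel] at this
    · simpa [if_neg hne] using h1
  obtain ⟨u, hu, w, hw, hw1, he⟩ := (Chart.mem_locRing_iff hj z').mp hmem
  rw [hring] at hu hw
  obtain ⟨c0, hc0'⟩ := Chart.exists_const hK Q hw1.le
  have hc00 : c0 ≠ 0 := (Chart.val_eq_one_iff_const Q hc0').mp hw1
  set μ := 1 - algebraMap k K c0⁻¹ * w with hμ
  have hμm : μ ∈ ring2 k x y := sub_mem (one_mem _) (mul_mem (Subalgebra.algebraMap_mem _ _) hw)
  have hμ1 : Q.1 μ ≤ exp (-1) := by
    refine Local.val_le_exp_neg_one ?_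
    have e1 : μ = -(algebraMap k K c0⁻¹ * (w - algebraMap k K c0)) := by
      rw [hμ, mul_sub, ← map_mul, inv_mul_cancel₀ hc00, map_one]; ring
    rw [e1, Valuation.map_neg, map_mul]
    exact (mul_le_of_le_one_left' (Q.2.1 _)).trans_lt hc0'
  refine ⟨u * (algebraMap k K c0⁻¹ * ∑ n ∈ Finset.range L, μ ^ n),
    mul_mem hu (mul_mem (Subalgebra.algebraMap_mem _ _) (Subalgebra.sum_mem _ fun n _ => pow_mem hμm n)), ?_⟩
  have e2 : u * (algebraMap k K c0⁻¹ * ∑ n ∈ Finset.range L, μ ^ n) = z' * (1 - μ ^ L) := by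
    rw [← he, ← mul_neg_geom_sum μ L, show 1 - μ = algebraMap k K c0⁻¹ * w by rw [hμ]; ring]
    ring
  rw [e2, show z - z' * (1 - μ ^ L) = -(z' - z) + z' * μ ^ L by ring]
  refine Q.1.map_add_le (by rw [Valuation.map_neg]; exact hzL) ?_
  have hz'1 : Q.1 z' ≤ 1 := Chart.val_le_one_of_locRing hmem
  rw [map_mul, map_pow]
  refine (mul_le_of_le_one_left' hz'1).trans ((pow_le_pow_left' hμ1 L).trans_eq ?_)
  rw [← exp_nsmul]
  simp

end Groth.Agent.Lib.FunFld.PlaneCurve.Blowup
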