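import Groth.Agent.Lib.FunFld.LinSys.Nonsingular
import Groth.Agent.Lib.FunFld.LinSys.VeryAmple
import Groth.Agent.Lib.FunFld.PlaneCurve.Homog
import Groth.Agent.Lib.FunFld.Hasse.Param
import Mathlib.LinearAlgebra.Matrix.Adjugate
import Mathlib.Algebra.BigOperators.Field
import Mathlib.LinearAlgebra.Dimension.DivisionRing
import Mathlib.FieldTheory.IntermediateField.Adjoin.Algebra

/-! The Jacobian criterion for the nonsingular places of a projective map. -/

namespace Groth.Agent.Lib.FunFld.PlaneCurve.Local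

open WithZero MvPolynomial
open Groth.Agent.Lib.FunFld Groth.Agent.Lib.FunFld.LinSys

universe u v w
variable {k : Type u} [Field k] {K : Type v} [Field K] [Algebra k K] {ι : Type w} [Fintype ι]

local notation "Pl" => _root_.FunFld.Place k K

/-- Decomposition of a polynomial at a point. -/
theorem exists_decomp (a : ι → k) (F : MvPolynomial ι k) :
    ∃ H : ι → MvPolynomial ι k, F = C (aeval a F) + ∑ i, (X i - C (a i)) * H i := by
  classical
  induction F using MvPolynomial.induction_on with
  | C r => exact ⟨0, by simp⟩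
  | add p q hp hq =>
    obtain ⟨H, hH⟩ := hp
    obtain ⟨G, hG⟩ := hq
    refine ⟨H + G, ?_⟩
    conv_lhs => rw [hH, hG]
    simp only [map_add, Pi.add_apply, mul_add, Finset.sum_add_distrib]
    ring
  | mul_X p i hp =>
    obtain ⟨H, hH⟩ := hp
    refine ⟨fun l => H l * X i + if l = i then C (aeval a p) else 0, ?_⟩
    conv_lhs => rw [hH]
    simp only [map_mul, aeval_X, mul_add, Finset.sum_add_distrib, mul_ite, mul_zero,
      Finset.sum_ite_eq', Finset.mem_univ, if_true]
    rw [add_mul, Finset.sum_mul]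
    simp only [mul_assoc]
    ring

omit [Fintype ι] in
theorem aeval_algebraMap (a : ι → k) (F : MvPolynomial ι k) :
    aeval (fun i => algebraMap k K (a i)) F = algebraMap k K (aeval a F) :=
  (DFunLike.congr_fun (comp_aeval a (Algebra.ofId k K)) F).symm

theorem eval_pderiv_decomp {a : ι → k} {F : MvPolynomial ι k} {H : ι → MvPolynomial ι k}
    (h : F = C (aeval a F) + ∑ i, (X i - C (a i)) * H i) (i : ι) :
    aeval a (H i) = aeval a (pderiv i F) := by
  classical
  conv_rhs => rw [h]
  simp only [map_add, map_sum, pderiv_C, zero_add, pderiv_mul, map_sub, pderiv_X, sub_zero, map_mul,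
    aeval_X, aeval_C, Algebra.algebraMap_self, RingHom.id_apply, sub_self, zero_mul, add_zero]
  rw [Finset.sum_eq_single i]
  · simp
  · intro j _ hj
    rw [Pi.single_eq_of_ne hj]; simp
  · simp

/-- The linear part of a polynomial at a point. -/
noncomputable def dlin (a : ι → k) : MvPolynomial ι k →ₗ[k] (ι → k) :=
  LinearMap.pi fun i => (aeval a).toLinearMap ∘ₗ (pderiv i).toLinearMap

theorem dlin_apply (a : ι → k) (F : MvPolynomial ι k) (i : ι) :
    dlin a F i = aeval a (pderiv i F) := rfl

/-- The span of the linear parts of the relations. -/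
noncomputable def W (v : ι → K) (a : ι → k) : Submodule k (ι → k) :=
  Submodule.map (dlin a) (LinearMap.ker (aeval v : MvPolynomial ι k →ₐ[k] K).toLinearMap)

theorem dlin_mem_W {v : ι → K} (a : ι → k) {F : MvPolynomial ι k} (h : aeval v F = 0) :
    dlin a F ∈ W v a := ⟨F, h, rfl⟩

variable {P : _root_.FunFld.Place k K} {v : ι → K} {a : ι → k}

theorem val_aeval_le_one (hv : ∀ i, P.1 (v i) ≤ 1) (F : MvPolynomial ι k) : P.1 (aeval v F) ≤ 1 := by
  induction F using MvPolynomial.induction_on with
  | C r => simpa using P.2.1 r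
  | add p q hp hq => rw [map_add]; exact P.1.map_add_le hp hq
  | mul_X p i hp => rw [map_mul, aeval_X, map_mul]; exact mul_le_one' hp (hv i)

theorem val_le_one_of_near (hv : ∀ i, P.1 (v i - algebraMap k K (a i)) < 1) (i : ι) :
    P.1 (v i) ≤ 1 := by
  have := P.1.map_add_le (hv i).le (P.2.1 (a i))
  rwa [sub_add_cancel] at this

theorem val_aeval_sub_lt (hv : ∀ i, P.1 (v i - algebraMap k K (a i)) < 1) (F : MvPolynomial ι k) :
    P.1 (aeval v F - algebraMap k K (aeval a F)) < 1 := by
  obtain ⟨H, hH⟩ := exists_decomp a F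
  conv_lhs => rw [congrArg (aeval v) hH]
  rw [map_add, aeval_C, add_sub_cancel_left, map_sum]
  refine P.1.map_sum_lt one_ne_zero fun i _ => ?_
  rw [map_mul, map_sub, aeval_X, aeval_C, map_mul]
  exact (mul_le_of_le_one_right' (val_aeval_le_one (val_le_one_of_near hv) _)).trans_lt (hv i)

theorem aeval_eq_zero_of (hv : ∀ i, P.1 (v i - algebraMap k K (a i)) < 1) {F : MvPolynomial ι k}
    (h : aeval v F = 0) : aeval a F = 0 := by
  by_contra hne
  have := val_aeval_sub_lt hv F
  rw [h, zero_sub, Valuation.map_neg, Place.val_algebraMap P hne] at this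
  exact lt_irrefl _ this

theorem val_le_exp_neg_one {z : K} (h : P.1 z < 1) : P.1 z ≤ exp (-1) := by
  rw [Place.val_le_exp_iff]
  exact ((Place.val_lt_one_iff P).mp h).imp id fun h => by omega

/-- First-order Taylor expansion at a place. -/
theorem taylor (hv : ∀ i, P.1 (v i - algebraMap k K (a i)) < 1) (F : MvPolynomial ι k) :
    P.1 (aeval v F - algebraMap k K (aeval a F) -
      ∑ i, dlin a F i • (v i - algebraMap k K (a i))) ≤ exp (-2) := by
  obtain ⟨H, hH⟩ := exists_decomp a F
  have e : aeval v F - algebraMap k K (aeval a F) - ∑ i, dlin a F i • (v i - algebraMap k K (a i)) =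
      ∑ i, (v i - algebraMap k K (a i)) * (aeval v (H i) - algebraMap k K (aeval a (H i))) := by
    conv_lhs => rw [congrArg (aeval v) hH]
    rw [map_add, aeval_C, add_sub_cancel_left, map_sum, ← Finset.sum_sub_distrib]
    refine Finset.sum_congr rfl fun i _ => ?_
    rw [map_mul, map_sub, aeval_X, aeval_C, dlin_apply, ← eval_pderiv_decomp hH, Algebra.smul_def]
    ring
  rw [e]
  refine P.1.map_sum_le fun i _ => ?_
  rw [map_mul, show exp (-2 : ℤ) = exp (-1) * exp (-1) by rw [← exp_add]; norm_num]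
  exact mul_le_mul' (val_le_exp_neg_one (hv i)) (val_le_exp_neg_one (val_aeval_sub_lt hv _))

theorem val_linear_le_of_mem (hv : ∀ i, P.1 (v i - algebraMap k K (a i)) < 1) {c : ι → k}
    (hc : c ∈ W v a) : P.1 (∑ i, c i • (v i - algebraMap k K (a i))) ≤ exp (-2) := by
  obtain ⟨F, hF, rfl⟩ := hc
  change aeval v F = 0 at hF
  have := taylor hv F
  rwa [hF, aeval_eq_zero_of hv hF, map_zero, sub_zero, zero_sub, Valuation.map_neg] at this

theorem val_eq_one_of (hv : ∀ i, P.1 (v i - algebraMap k K (a i)) < 1) {F : MvPolynomial ι k}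
    (h : aeval a F ≠ 0) : P.1 (aeval v F) = 1 :=
  (Chart.val_eq_one_iff_const P (val_aeval_sub_lt hv F)).mpr h

variable {φ : ι → K} {j : ι}

omit [Fintype ι] in
theorem aeval_mem_ring (hvφ : ∀ i, v i = φ i / φ j) (F : MvPolynomial ι k) :
    aeval v F ∈ Chart.ring k φ j := by
  rw [show v = fun i => φ i / φ j from funext hvφ, Chart.ring, Algebra.adjoin_range_eq_range_aeval]
  exact ⟨F, rfl⟩

omit [Fintype ι] in
theorem exists_of_mem_ring (hvφ : ∀ i, v i = φ i / φ j) {z : K} (hz : z ∈ Chart.ring k φ j) :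
    ∃ F : MvPolynomial ι k, aeval v F = z := by
  rw [Chart.ring, Algebra.adjoin_range_eq_range_aeval] at hz
  rw [show v = fun i => φ i / φ j from funext hvφ]
  exact hz

/-- If every coordinate is a multiple of one of them in the local ring, the map is nonsingular. -/
theorem of_generated [IsAlgClosed k] (hK : FunFld.IsFunctionField k K) (hj : Chart.IsMax φ j P)
    (htop : IntermediateField.adjoin k (Set.range fun i => φ i / φ j) = ⊤)
    (hv : ∀ i, P.1 (φ i / φ j - algebraMap k K (a i)) < 1) (l : ι)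
    (hgen : ∀ i, ∃ u ∈ Chart.ring k φ j, ∃ w ∈ Chart.ring k φ j, P.1 w = 1 ∧
      (φ i / φ j - algebraMap k K (a i)) * w = (φ l / φ j - algebraMap k K (a l)) * u) :
    _root_.FunFld.IsNonsingularAt φ P := by
  classical
  set v : ι → K := fun i => φ i / φ j with hvdef
  set t := v l - algebraMap k K (a l) with ht
  choose u hu w hw hw1 huw using hgen
  set Wd := ∏ i, w i with hWd
  have hWd1 : P.1 Wd = 1 := by rw [hWd, map_prod]; exact Finset.prod_eq_one fun i _ => hw1 i
  have hWdm : Wd ∈ Chart.ring k φ j := Subalgebra.prod_mem _ fun i _ => hw i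
  have ht0 : t ≠ 0 := by
    intro h0
    have hz : ∀ i, v i = algebraMap k K (a i) := fun i => by
      have := huw i
      rw [h0, zero_mul, mul_eq_zero] at this
      exact sub_eq_zero.mp (this.resolve_right fun h => by simpa [h] using hw1 i)
    obtain ⟨x, hx⟩ := Riemann.exists_transcendental hK
    have hbot : IntermediateField.adjoin k (Set.range v) = ⊥ := by
      rw [eq_bot_iff, IntermediateField.adjoin_le_iff]
      rintro _ ⟨i, rfl⟩
      exact IntermediateField.mem_bot.mpr ⟨a i, (hz i).symm⟩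
    rw [hvdef] at hbot
    rw [hbot] at htop
    have hx' : x ∈ (⊥ : IntermediateField k K) := htop ▸ IntermediateField.mem_top
    exact Bound.not_mem_range_of_transcendental hx (IntermediateField.mem_bot.mp hx')
  have ht1 : P.1 t < 1 := hv l
  have hdesc : ∀ (m : ℕ) (r : K), r ∈ Chart.ring k φ j → r ≠ 0 → (P.ord r).natAbs ≤ m →
      ∃ (n : ℕ), ∃ u' ∈ Chart.ring k φ j, ∃ w' ∈ Chart.ring k φ j,
        P.1 u' = 1 ∧ P.1 w' = 1 ∧ r * w' = t ^ n * u' := by
    intro m
    induction m using Nat.strong_induction_on with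
    | _ m ih =>
      intro r hr hr0 hm
      obtain ⟨F, hF⟩ := exists_of_mem_ring (v := v) (fun _ => rfl) hr
      rcases ne_or_eq (aeval a F) 0 with h1 | h1
      · exact ⟨0, r, hr, 1, one_mem _, hF ▸ val_eq_one_of hv h1, map_one _, by simp⟩
      obtain ⟨H, hH⟩ := exists_decomp a F
      set r' := ∑ i, u i * (∏ i' ∈ Finset.univ.erase i, w i') * aeval v (H i) with hr'
      have hr'm : r' ∈ Chart.ring k φ j := Subalgebra.sum_mem _ fun i _ =>
        mul_mem (mul_mem (hu i) (Subalgebra.prod_mem _ fun i' _ => hw i')) (aeval_mem_ring (fun _ => rfl) _)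
      have e : r * Wd = t * r' := by
        rw [← hF, congrArg (aeval v) hH, map_add, h1, map_zero, map_zero, zero_add, map_sum,
          Finset.sum_mul, hr', Finset.mul_sum]
        refine Finset.sum_congr rfl fun i _ => ?_
        rw [map_mul, map_sub, aeval_X, aeval_C, hWd, ← Finset.mul_prod_erase _ _ (Finset.mem_univ i)]
        linear_combination (aeval v (H i) * ∏ i' ∈ Finset.univ.erase i, w i') * huw i
      have hWd0 : Wd ≠ 0 := fun h => by simp [h] at hWd1
      have hr'0 : r' ≠ 0 := by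
        intro h; rw [h, mul_zero] at e; exact mul_ne_zero hr0 hWd0 e
      have h2 : P.ord r = P.ord t + P.ord r' := by
        rw [← Place.ord_mul P ht0 hr'0, ← e, Place.ord_mul P hr0 hWd0]
        rw [show P.ord Wd = 0 by rw [Place.ord_def, hWd1, log_one, neg_zero], add_zero]
      have h3 : 1 ≤ P.ord t := ((Place.val_lt_one_iff P).mp ht1).resolve_left ht0
      have h4 : 0 ≤ P.ord r' := (Place.val_le_one_iff P).mp (Chart.val_le_one_of_mem hj hr'm)
      obtain ⟨n, u', hu', w', hw', hu1, hw1', he⟩ :=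
        ih (P.ord r').natAbs (by omega) r' hr'm hr'0 le_rfl
      refine ⟨n + 1, u', hu', w' * Wd, mul_mem hw' hWdm, hu1, by rw [map_mul, hw1', hWd1, one_mul], ?_⟩
      rw [pow_succ]
      linear_combination w' * e + t * he
  have hfrac : ∀ z : K, z ≠ 0 → ∃ n : ℤ, ∀ Q : Pl, _root_.FunFld.SameImage φ P Q →
      Q.ord z = n * Q.ord t := by
    intro z hz0
    have hz : z ∈ IntermediateField.adjoin k (Set.range v) := by rw [hvdef, htop]; trivial
    rw [IntermediateField.mem_adjoin_iff_div] at hz
    obtain ⟨r, hr, s, hs, hzrs⟩ := hz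
    have hr0 : r ≠ 0 := by rintro rfl; simp [hzrs] at hz0
    have hs0 : s ≠ 0 := by rintro rfl; simp [hzrs] at hz0
    obtain ⟨n, u₁, hu₁, w₁, hw₁, hu₁1, hw₁1, e₁⟩ := hdesc _ r hr hr0 le_rfl
    obtain ⟨m, u₂, hu₂, w₂, hw₂, hu₂1, hw₂1, e₂⟩ := hdesc _ s hs hs0 le_rfl
    refine ⟨(n : ℤ) - m, fun Q hQ => ?_⟩
    have hunit : ∀ b ∈ Chart.ring k φ j, P.1 b = 1 → b ≠ 0 ∧ Q.ord b = 0 := by
      intro b hb hb1
      obtain ⟨h1, h2⟩ := Chart.locRing_of_sameImage hQ (Chart.locRing_of_mem hj hb)
      have hbQ : Q.1 b = 1 := le_antisymm h1 (not_lt.mp fun h => (h2.mp h).ne hb1)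
      exact ⟨fun h => by simp [h] at hb1, by rw [Place.ord_def, hbQ, log_one, neg_zero]⟩
    obtain ⟨hu₁0, hu₁o⟩ := hunit u₁ hu₁ hu₁1
    obtain ⟨hw₁0, hw₁o⟩ := hunit w₁ hw₁ hw₁1
    obtain ⟨hu₂0, hu₂o⟩ := hunit u₂ hu₂ hu₂1
    obtain ⟨hw₂0, hw₂o⟩ := hunit w₂ hw₂ hw₂1
    have f₁ := congrArg Q.ord e₁
    have f₂ := congrArg Q.ord e₂
    rw [Place.ord_mul Q hr0 hw₁0, Place.ord_mul Q (pow_ne_zero _ ht0) hu₁0, Place.ord_pow, hu₁o,
      hw₁o, add_zero, add_zero] at f₁
    rw [Place.ord_mul Q hs0 hw₂0, Place.ord_mul Q (pow_ne_zero _ ht0) hu₂0, Place.ord_pow, hu₂o,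
      hw₂o, add_zero, add_zero] at f₂
    rw [hzrs, Place.ord_div Q hr0 hs0, f₁, f₂]
    ring
  have hordt : ∀ Q : Pl, _root_.FunFld.SameImage φ P Q → Q.ord t = 1 := by
    intro Q hQ
    obtain ⟨z, hz0, hz1⟩ := Place.exists_uniformizer Q
    obtain ⟨n, hn⟩ := hfrac z hz0
    have h1 : Q.ord z = 1 := by rw [Place.ord_eq_of_val_eq_exp Q hz1]; norm_num
    have h2 := hn Q hQ
    rw [h1] at h2
    obtain ⟨h3, h4⟩ := Chart.locRing_of_sameImage hQ
      (Chart.locRing_of_mem hj (aeval_mem_ring (v := v) (fun _ => rfl) (X l - C (a l))))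
    rw [map_sub, aeval_X, aeval_C] at h4
    have h5 : 1 ≤ Q.ord t := ((Place.val_lt_one_iff Q).mp (h4.mpr ht1)).resolve_left ht0
    rcases Int.eq_one_or_neg_one_of_mul_eq_one' h2.symm with ⟨-, h⟩ | ⟨-, h⟩
    · exact h
    · omega
  have hrefl := Chart.sameImage_refl hK ⟨j, hj.1⟩ P
  refine Nonsingular.of_uniformizer hK hj htop (fun Q hQ => ?_)
    (Chart.locRing_of_mem hj (aeval_mem_ring (v := v) (fun _ => rfl) (X l - C (a l)))) ?_
  · refine Place.place_ext_of_le_iff fun z => ?_
    rcases eq_or_ne z 0 with rfl | hz0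
    · simp
    obtain ⟨n, hn⟩ := hfrac z hz0
    rw [Place.val_le_one_iff, Place.val_le_one_iff, hn Q hQ, hn P hrefl, hordt Q hQ, hordt P hrefl]
  · rw [map_sub, aeval_X, aeval_C, Place.val_eq_exp P ht0, hordt P hrefl]

/-- The Jacobian criterion, sufficiency. -/
theorem of_span [IsAlgClosed k] [DecidableEq ι] (hK : FunFld.IsFunctionField k K)
    (hj : Chart.IsMax φ j P)
    (htop : IntermediateField.adjoin k (Set.range fun i => φ i / φ j) = ⊤)
    (hv : ∀ i, P.1 (φ i / φ j - algebraMap k K (a i)) < 1) (l : ι)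
    (hspan : ∀ i, ∃ c : k, Pi.single i 1 - c • Pi.single l 1 ∈ W (fun i => φ i / φ j) a) :
    _root_.FunFld.IsNonsingularAt φ P := by
  set v : ι → K := fun i => φ i / φ j with hvdef
  choose c F hF hd using hspan
  choose H hH using fun i => exists_decomp a (F i)
  let N : Matrix ι ι (MvPolynomial ι k) :=
    Matrix.of fun i m => H i m + if m = l then C (c i) else 0
  set z : ι → K := fun i => v i - algebraMap k K (a i) with hz
  set Nv : Matrix ι ι K := N.map (aeval v) with hNv
  have hFz : ∀ i, aeval v (F i) = 0 := hF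
  have hNz : Nv.mulVec z = fun i => algebraMap k K (c i) * z l := by
    funext i
    have h1 := congrArg (aeval v) (hH i)
    rw [hFz i, map_add, aeval_eq_zero_of hv (hFz i), map_zero, map_zero, zero_add, map_sum] at h1
    simp only [Matrix.mulVec, dotProduct, hNv, Matrix.map_apply, N, Matrix.of_apply, map_add, add_mul,
      Finset.sum_add_distrib]
    have h2 : ∑ m, aeval v (H i m) * z m = 0 := by
      refine Eq.trans (Finset.sum_congr rfl fun m _ => ?_) h1.symm
      rw [map_mul, map_sub, aeval_X, aeval_C, mul_comm, hz]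
    rw [h2, zero_add, Finset.sum_eq_single l (fun m _ hm => by rw [if_neg hm]; simp)
      (fun h => absurd (Finset.mem_univ l) h), if_pos rfl, aeval_C]
  have hNa : N.map (aeval a) = 1 := by
    ext i m
    have h3 := congrFun (hd i) m
    rw [dlin_apply, ← eval_pderiv_decomp (hH i), Pi.sub_apply, Pi.smul_apply, smul_eq_mul] at h3
    simp only [Matrix.map_apply, N, Matrix.of_apply, map_add, h3, Pi.single_apply, Matrix.one_apply,
      eq_comm (a := m) (b := i)]
    split_ifs <;> simp
  have hdet : P.1 Nv.det = 1 := by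
    have e1 : Nv.det = aeval v N.det := by
      rw [AlgHom.map_det]; rfl
    rw [e1]
    refine val_eq_one_of hv ?_
    rw [AlgHom.map_det]
    change (N.map (aeval a)).det ≠ 0
    rw [hNa, Matrix.det_one]
    exact one_ne_zero
  refine of_generated hK hj htop hv l fun i => ?_
  refine ⟨∑ m, Nv.adjugate i m * algebraMap k K (c m), ?_, Nv.det, ?_, hdet, ?_⟩
  · refine Subalgebra.sum_mem _ fun m _ => mul_mem ?_ (Subalgebra.algebraMap_mem _ _)
    have e2 : Nv.adjugate i m = aeval v (N.adjugate i m) := by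
      have := (aeval v).toRingHom.map_adjugate N
      exact (congrFun (congrFun this i) m).symm
    rw [e2]; exact aeval_mem_ring (fun _ => rfl) _
  · rw [show Nv.det = aeval v N.det by rw [AlgHom.map_det]; rfl]; exact aeval_mem_ring (fun _ => rfl) _
  · have h4 := congrArg Nv.adjugate.mulVec hNz
    rw [Matrix.mulVec_mulVec, Matrix.adjugate_mul, Matrix.smul_mulVec, Matrix.one_mulVec] at h4
    have h5 := congrFun h4 i
    simp only [Pi.smul_apply, smul_eq_mul, Matrix.mulVec, dotProduct] at h5
    change z i * Nv.det = z l * _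
    rw [mul_comm, h5, Finset.mul_sum]
    exact Finset.sum_congr rfl fun m _ => by ring

/-- The Jacobian criterion, necessity. -/
theorem exists_span [IsAlgClosed k] [DecidableEq ι] (hj : Chart.IsMax φ j P)
    (hv : ∀ i, P.1 (φ i / φ j - algebraMap k K (a i)) < 1)
    (hns : _root_.FunFld.IsNonsingularAt φ P) :
    ∃ l, ∀ i, ∃ c : k, Pi.single i 1 - c • Pi.single l 1 ∈ W (fun i => φ i / φ j) a := by
  set v : ι → K := fun i => φ i / φ j with hvdef
  obtain ⟨t, ht⟩ := Place.exists_val_eq_exp P (-1)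
  have htm := hns t (by rw [ht, ← exp_zero, exp_le_exp]; norm_num)
  obtain ⟨l, hl⟩ : ∃ l, P.1 (v l - algebraMap k K (a l)) = exp (-1) := by
    by_contra hcon
    simp only [not_exists] at hcon
    refine VeryAmple.no_uniformizer hj (fun i => ⟨a i, ?_⟩) htm ht
    have h1 := val_le_exp_neg_one (hv i)
    rcases eq_or_ne (v i - algebraMap k K (a i)) 0 with h0 | h0
    · rw [show φ i / φ j - algebraMap k K (a i) = 0 from h0, map_zero]; exact zero_le
    · have h2 := hcon i
      rw [Place.val_eq_exp P h0, exp_inj] at h2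
      rw [Place.val_eq_exp P h0, exp_le_exp] at h1
      rw [Place.val_eq_exp P h0, exp_le_exp]
      omega
  refine ⟨l, fun i => ?_⟩
  have hl0 : v l - algebraMap k K (a l) ≠ 0 := fun h => exp_ne_zero (by rw [h, map_zero] at hl; exact hl.symm)
  obtain ⟨u, hu, w, hw, hw1, huw⟩ := (Chart.mem_locRing_iff hj _).mp
    (hns ((v i - algebraMap k K (a i)) / (v l - algebraMap k K (a l))) (by
      rw [map_div₀, hl, div_le_one₀ (zero_lt_iff.mpr exp_ne_zero)]
      exact val_le_exp_neg_one (hv i)))
  obtain ⟨U, hU⟩ := exists_of_mem_ring (v := v) (fun _ => rfl) hu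
  obtain ⟨Wp, hWp⟩ := exists_of_mem_ring (v := v) (fun _ => rfl) hw
  have hWa : aeval a Wp ≠ 0 := (Chart.val_eq_one_iff_const P (val_aeval_sub_lt hv Wp)).mp (hWp ▸ hw1)
  refine ⟨aeval a U / aeval a Wp, ?_⟩
  have hG : aeval v ((X i - C (a i)) * Wp - (X l - C (a l)) * U) = 0 := by
    rw [map_sub, map_mul, map_mul, map_sub, map_sub, aeval_X, aeval_X, aeval_C, aeval_C, hU, hWp, ← huw]
    field_simp
    ring
  have := Submodule.smul_mem _ (aeval a Wp)⁻¹ (dlin_mem_W a hG)
  convert this using 1
  funext m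
  rw [Pi.sub_apply, Pi.smul_apply, Pi.smul_apply, dlin_apply]
  simp only [map_sub, map_mul, pderiv_mul, pderiv_X, pderiv_C, sub_zero, map_add, aeval_X, aeval_C,
    Algebra.algebraMap_self, RingHom.id_apply, sub_self, zero_mul, add_zero, smul_eq_mul]
  simp only [Pi.single_apply, show ∀ p, (p = m) = (m = p) from fun p => propext eq_comm]
  split_ifs <;> simp only [map_one, map_zero, mul_one, mul_zero, one_mul, zero_mul, sub_zero, zero_sub, sub_self] <;>
    field_simp

/-- The Jacobian criterion. -/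
theorem iff_finrank [IsAlgClosed k] (hK : FunFld.IsFunctionField k K) (hj : Chart.IsMax φ j P)
    (htop : IntermediateField.adjoin k (Set.range fun i => φ i / φ j) = ⊤)
    (hv : ∀ i, P.1 (φ i / φ j - algebraMap k K (a i)) < 1) :
    _root_.FunFld.IsNonsingularAt φ P ↔
      Module.finrank k (W (fun i => φ i / φ j) a) + 1 = Fintype.card ι := by
  classical
  set v : ι → K := fun i => φ i / φ j with hvdef
  set Wa := W v a
  have hne : Wa ≠ ⊤ := by
    intro htopW
    have hns : _root_.FunFld.IsNonsingularAt φ P :=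
      of_span hK hj htop hv j fun i => ⟨0, by rw [← hvdef]; change _ ∈ Wa; rw [htopW]; trivial⟩
    obtain ⟨t, ht⟩ := Place.exists_val_eq_exp P (-1)
    refine VeryAmple.no_uniformizer hj (fun i => ⟨a i, ?_⟩)
      (hns t (by rw [ht, ← exp_zero, exp_le_exp]; norm_num)) ht
    have := val_linear_le_of_mem (P := P) (v := v) hv (c := Pi.single i 1) (by change _ ∈ Wa; rw [htopW]; trivial)
    simpa [Pi.single_apply, ite_smul, hvdef] using this
  have hlt : Module.finrank k Wa < Fintype.card ι := by
    rw [← Module.finrank_pi (R := k) (ι := ι)]; exact Submodule.finrank_lt hne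
  constructor
  · intro hns
    obtain ⟨l, hl⟩ := exists_span hj hv hns
    have htop' : Wa ⊔ Submodule.span k {(Pi.single l 1 : ι → k)} = ⊤ := by
      rw [eq_top_iff, ← (Pi.basisFun k ι).span_eq, Submodule.span_le]
      rintro _ ⟨i, rfl⟩
      obtain ⟨c, hc⟩ := hl i
      rw [Pi.basisFun_apply, show (Pi.single i 1 : ι → k) =
        (Pi.single i 1 - c • Pi.single l 1) + c • Pi.single l 1 by rw [sub_add_cancel]]
      exact add_mem (Submodule.mem_sup_left hc)
        (Submodule.mem_sup_right (Submodule.smul_mem _ c (Submodule.mem_span_singleton_self _)))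
    have h := Submodule.finrank_add_le_finrank_add_finrank Wa (Submodule.span k {(Pi.single l 1 : ι → k)})
    rw [htop', finrank_top, Module.finrank_pi,
      finrank_span_singleton (K := k) (by simp : (Pi.single l 1 : ι → k) ≠ 0)] at h
    omega
  · intro hfr
    obtain ⟨l, hl⟩ : ∃ l, (Pi.single l 1 : ι → k) ∉ Wa := by
      by_contra hcon
      simp only [not_exists, not_not] at hcon
      refine hne (eq_top_iff.mpr ?_)
      rw [← (Pi.basisFun k ι).span_eq, Submodule.span_le]
      rintro _ ⟨i, rfl⟩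
      rw [Pi.basisFun_apply]; exact hcon i
    have htop' : Wa ⊔ Submodule.span k {(Pi.single l 1 : ι → k)} = ⊤ := by
      refine Submodule.eq_top_of_finrank_eq (le_antisymm (Submodule.finrank_le _) ?_)
      rw [Module.finrank_pi, ← hfr]
      refine Nat.succ_le_of_lt (Submodule.finrank_lt_finrank_of_lt (lt_of_le_of_ne le_sup_left ?_))
      intro h
      exact hl (h ▸ Submodule.mem_sup_right (Submodule.mem_span_singleton_self _))
    refine of_span hK hj htop hv l fun i => ?_
    obtain ⟨w, hw, s, hs, hsum⟩ := Submodule.mem_sup.mp (htop' ▸ Submodule.mem_top :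
      (Pi.single i 1 : ι → k) ∈ Wa ⊔ Submodule.span k {(Pi.single l 1 : ι → k)})
    obtain ⟨c, rfl⟩ := Submodule.mem_span_singleton.mp hs
    exact ⟨c, by rw [← hsum, add_sub_cancel_right]; exact hw⟩

/-- Generators of the homogeneous ideal give the linear parts in a chart. -/
theorem W_eq_span [DecidableEq ι] {ρ : Type*} (f : ρ → MvPolynomial ι k) (n : ρ → ℕ)
    (hhom : ∀ r, (f r).IsHomogeneous (n r)) (hj0 : φ j ≠ 0)
    (hgen : Ideal.span (Set.range f) = RingHom.ker (aeval fun i => Polynomial.C (φ i) * Polynomial.X))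
    (hv : ∀ i, P.1 (φ i / φ j - algebraMap k K (a i)) < 1) :
    W (fun i => φ i / φ j) a =
      Submodule.span k (Set.range (fun r => dlin a (f r)) ∪ {Pi.single j 1}) := by
  set v : ι → K := fun i => φ i / φ j with hvdef
  have hvj : v j = 1 := div_self hj0
  have haj : a j = 1 := Chart.const_unique P (hv j) (by
    rw [show φ j / φ j = 1 from div_self hj0, map_one, sub_self, map_zero]; exact zero_lt_one)
  have hscale : ∀ {F : MvPolynomial ι k} {m : ℕ}, F.IsHomogeneous m →
      (aeval φ F = 0 ↔ aeval v F = 0) := by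
    intro F m hF
    have e : φ = fun i => φ j * v i := funext fun i => by rw [hvdef]; field_simp
    rw [e, Diff.aeval_smul_homogeneous hF, mul_eq_zero, or_iff_right (pow_ne_zero _ hj0)]
  have hfv : ∀ r, aeval v (f r) = 0 := fun r => by
    have h1 : f r ∈ RingHom.ker (aeval (R := k) fun i => Polynomial.C (φ i) * Polynomial.X) :=
      hgen ▸ Ideal.subset_span ⟨r, rfl⟩
    rw [RingHom.mem_ker, Homog.aeval_T _ (hhom r), mul_eq_zero, Polynomial.C_eq_zero] at h1
    exact (hscale (hhom r)).mp (h1.resolve_right (pow_ne_zero _ Polynomial.X_ne_zero))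
  have hej : dlin a (X j - 1) = Pi.single j 1 := funext fun i => by
    rw [dlin_apply, map_sub, pderiv_one, sub_zero, pderiv_X]
    simp [Pi.single_apply, eq_comm]
  refine le_antisymm ?_ (Submodule.span_le.mpr ?_)
  · rintro _ ⟨F, hF, rfl⟩
    change aeval v F = 0 at hF
    set N := F.totalDegree
    set G := ∑ d ∈ Finset.range (N + 1), X j ^ (N - d) * homogeneousComponent d F with hG
    have hGh : G.IsHomogeneous N := IsHomogeneous.sum _ _ _ fun d hd => by
      have := ((isHomogeneous_X k j).pow (N - d)).mul (homogeneousComponent_isHomogeneous d F)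
      rwa [one_mul, Nat.sub_add_cancel (Nat.lt_succ_iff.mp (Finset.mem_range.mp hd))] at this
    obtain ⟨R, hR⟩ : ∃ R, G - F = (X j - 1) * R := by
      obtain ⟨R, hR⟩ : (X j - 1 : MvPolynomial ι k) ∣ G - F := by
        have e : G - F = ∑ d ∈ Finset.range (N + 1), (X j ^ (N - d) - 1) * homogeneousComponent d F := by
          rw [Finset.sum_congr rfl fun d _ => sub_one_mul _ _, Finset.sum_sub_distrib,
            F.sum_homogeneousComponent, ← hG]
        rw [e]
        exact Finset.dvd_sum fun d _ => dvd_mul_of_dvd_left (sub_one_dvd_pow_sub_one _ _) _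
      exact ⟨R, hR⟩
    have hGv : aeval v G = 0 := by
      have := congrArg (aeval v) hR
      rwa [map_sub, hF, sub_zero, map_mul, map_sub, aeval_X, hvj, map_one, sub_self, zero_mul] at this
    have hGmem : G ∈ Ideal.span (Set.range f) := by
      rw [hgen, RingHom.mem_ker, Homog.aeval_T _ hGh, (hscale hGh).mpr hGv, map_zero, zero_mul]
    have hFe : F = G - (X j - 1) * R := by rw [← hR, sub_sub_cancel]
    have hmul : ∀ A B : MvPolynomial ι k, aeval a B = 0 → dlin a (A * B) = aeval a A • dlin a B :=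
      fun A B h => funext fun i => by
        simp only [dlin_apply, pderiv_mul, map_add, map_mul, h, mul_zero, zero_add, Pi.smul_apply,
          smul_eq_mul]
    rw [hFe, map_sub]
    refine sub_mem ?_ ?_
    · obtain ⟨co, hco⟩ := Finsupp.mem_span_range_iff_exists_finsupp.mp hGmem
      rw [← hco, Finsupp.sum, map_sum]
      refine Submodule.sum_mem _ fun r _ => ?_
      rw [smul_eq_mul, hmul _ _ (aeval_eq_zero_of hv (hfv r))]
      exact Submodule.smul_mem _ _ (Submodule.subset_span (Or.inl ⟨r, rfl⟩))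
    · rw [mul_comm, hmul _ _ (by simp [haj]), hej]
      exact Submodule.smul_mem _ _ (Submodule.subset_span (Or.inr rfl))
  · rintro c (⟨r, rfl⟩ | rfl)
    · exact dlin_mem_W a (hfv r)
    · rw [SetLike.mem_coe, ← hej]
      exact dlin_mem_W a (by rw [map_sub, aeval_X, hvj, map_one, sub_self])

/-- A hyperplane of intersection multiplicity one exists exactly at nonsingular points. -/
theorem iff_hyperplane [IsAlgClosed k] [Nonempty ι] (hK : FunFld.IsFunctionField k K)
    (hne : ∀ i, φ i ≠ 0) (hj : Chart.IsMax φ j P)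
    (htop : IntermediateField.adjoin k (Set.range fun i => φ i / φ j) = ⊤) :
    _root_.FunFld.IsNonsingularAt φ P ↔ ∃ c : ι → k, ∑ i, c i • φ i ≠ 0 ∧
      ∑ᶠ Q ∈ {Q : Pl | _root_.FunFld.SameImage φ P Q},
        ((_root_.FunFld.mapDiv k φ) Q + Q.ord (∑ i, c i • φ i)) = 1 := by
  classical
  have hterm : ∀ (Q : Pl) (h : K), _root_.FunFld.SameImage φ P Q → h ≠ 0 →
      _root_.FunFld.mapDiv k φ Q + Q.ord h = Q.ord (h / φ j) := by
    intro Q h hQ hh
    have hjQ : Chart.IsMax φ j Q := (Chart.isMax_iff hj.1).mpr fun i =>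
      (Chart.locRing_of_sameImage hQ (Chart.locRing_of_mem hj (Chart.ratio_mem φ i j))).1
    rw [VeryAmple.mapDiv_eq_of_isMax hK hne hjQ, Place.ord_div Q hh hj.1]
    ring
  have hmem : ∀ c : ι → k, (∑ i, c i • φ i) / φ j ∈ Chart.ring k φ j := fun c => by
    rw [Finset.sum_div]
    exact Subalgebra.sum_mem _ fun i _ => by
      rw [smul_div_assoc]; exact Subalgebra.smul_mem _ (Chart.ratio_mem φ i j) _
  have hrefl := Chart.sameImage_refl hK ⟨j, hj.1⟩ P
  constructor
  · intro hns
    obtain ⟨a, ha⟩ : ∃ a : ι → k, ∀ i, P.1 (φ i / φ j - algebraMap k K (a i)) < 1 :=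
      ⟨_, fun i => (Chart.exists_const hK P (Chart.val_ratio_le hj i)).choose_spec⟩
    obtain ⟨t, ht⟩ := Place.exists_val_eq_exp P (-1)
    obtain ⟨l, hl⟩ : ∃ l, P.1 (φ l / φ j - algebraMap k K (a l)) = exp (-1) := by
      by_contra hcon
      simp only [not_exists] at hcon
      refine VeryAmple.no_uniformizer hj (fun i => ⟨a i, ?_⟩)
        (hns t (by rw [ht, ← exp_zero, exp_le_exp]; norm_num)) ht
      have h1 := val_le_exp_neg_one (ha i)
      rcases eq_or_ne (φ i / φ j - algebraMap k K (a i)) 0 with h0 | h0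
      · rw [h0, map_zero]; exact zero_le
      · have h2 := hcon i
        rw [Place.val_eq_exp P h0, exp_inj] at h2
        rw [Place.val_eq_exp P h0, exp_le_exp] at h1
        rw [Place.val_eq_exp P h0, exp_le_exp]
        omega
    refine ⟨Pi.single l 1 - a l • Pi.single j 1, ?_⟩
    have e : ∑ i, (Pi.single l 1 - a l • Pi.single j 1 : ι → k) i • φ i = φ l - a l • φ j := by
      simp [sub_smul, Finset.sum_sub_distrib, Pi.single_apply, ite_smul, smul_smul]
    rw [e]
    have e2 : (φ l - a l • φ j) / φ j = φ l / φ j - algebraMap k K (a l) := by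
      rw [Algebra.smul_def, sub_div, mul_div_assoc, div_self hj.1, mul_one]
    have h0 : φ l - a l • φ j ≠ 0 := fun h => by
      rw [h, zero_div] at e2; rw [← e2, map_zero] at hl; exact exp_ne_zero hl.symm
    refine ⟨h0, ?_⟩
    have hfib : {Q : Pl | _root_.FunFld.SameImage φ P Q} = {P} := by
      refine Set.eq_singleton_iff_unique_mem.mpr ⟨hrefl, fun Q hQ => ?_⟩
      exact (Place.place_eq_of_O_le (P := P) (Q := Q) fun z hz =>
        (Chart.locRing_of_sameImage hQ (hns z hz)).1).symm
    rw [hfib, finsum_mem_singleton, hterm P _ hrefl h0, e2, Place.ord_eq_of_val_eq_exp P hl]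
    norm_num
  · rintro ⟨c, h0, hsum⟩
    set z := (∑ i, c i • φ i) / φ j with hz
    have hz0 : z ≠ 0 := div_ne_zero h0 hj.1
    have hcongr : ∑ᶠ Q ∈ {Q : Pl | _root_.FunFld.SameImage φ P Q}, Q.ord z = 1 := by
      rw [← hsum]
      exact finsum_mem_congr rfl fun Q hQ => (hterm Q _ hQ h0).symm
    by_cases hlt : P.1 z < 1
    swap
    · exfalso
      rw [finsum_mem_congr rfl (g := fun _ => (0 : ℤ)) fun Q hQ => ?_, finsum_mem_zero] at hcongr
      · exact zero_ne_one hcongr
      obtain ⟨h1, h2⟩ := Chart.locRing_of_sameImage hQ (Chart.locRing_of_mem hj (hmem c))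
      have hQ1 : Q.1 z = 1 := le_antisymm h1 (not_lt.mp fun h => hlt (h2.mp h))
      rw [Place.ord_def, hQ1, log_one, neg_zero]
    have hpos : ∀ Q ∈ {Q : Pl | _root_.FunFld.SameImage φ P Q}, 1 ≤ Q.ord z := fun Q hQ =>
      ((Place.val_lt_one_iff Q).mp
        ((Chart.locRing_of_sameImage hQ (Chart.locRing_of_mem hj (hmem c))).2.mpr hlt)).resolve_left hz0
    have hfin : {Q : Pl | _root_.FunFld.SameImage φ P Q}.Finite :=
      (Degree.finite_zeros hK z).subset fun Q hQ => by
        have := hpos Q hQ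
        simp only [Set.mem_ofPred_eq]; omega
    rw [finsum_mem_eq_finite_toFinset_sum _ hfin] at hcongr
    have hone : ∀ Q, _root_.FunFld.SameImage φ P Q → Q = P := by
      intro Q hQ
      by_contra hne'
      have h1 := Finset.sum_le_sum_of_subset_of_nonneg (f := fun Q : Pl => Q.ord z)
        (s := {P, Q}) (t := hfin.toFinset) (by
          intro R hR
          rw [hfin.mem_toFinset]
          rcases Finset.mem_insert.mp hR with rfl | hR
          · exact hrefl
          · exact Finset.mem_singleton.mp hR ▸ hQ) (fun R hR _ => by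
          have := hpos R (hfin.mem_toFinset.mp hR); omega)
      rw [Finset.sum_pair (Ne.symm hne'), hcongr] at h1
      have := hpos P hrefl
      have := hpos Q hQ
      omega
    refine Nonsingular.of_uniformizer hK hj htop hone (Chart.locRing_of_mem hj (hmem c)) ?_
    rw [Finset.sum_eq_single P (fun Q hQ hne' => absurd (hone Q (hfin.mem_toFinset.mp hQ)) hne')
      (fun h => absurd (hfin.mem_toFinset.mpr hrefl) h)] at hcongr
    rw [← hz, Place.val_eq_exp P hz0, hcongr]

end Groth.Agent.Lib.FunFld.PlaneCurve.Local
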