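import Groth.Agent.Lib.FunFld.Existence
import Mathlib.RingTheory.Adjoin.FG
import Mathlib.RingTheory.PrincipalIdealDomain
import Mathlib.FieldTheory.IsAlgClosed.Basic

/-! The coordinate ring of a curve as an intersection over the places of the line. -/

namespace Groth.Agent.Lib.FunFld.PlaneCurve.OverLine

open WithZero
open Groth.Agent.Lib.FunFld

universe u v
variable {k : Type u} [Field k] {K : Type v} [Field K] [Algebra k K]

theorem isFunctionField_line (hK : FunFld.IsFunctionField k K) {x : K} (hx : Transcendental k x) :
    FunFld.IsFunctionField k (IntermediateField.adjoin k ({x} : Set K)) := by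
  set F := IntermediateField.adjoin k ({x} : Set K)
  set gx : F := ⟨x, IntermediateField.mem_adjoin_simple_self k x⟩
  have htr : Transcendental k gx := fun h => hx (h.algHom F.val)
  have htop : IntermediateField.adjoin k ({gx} : Set F) = ⊤ := by
    refine IntermediateField.map_injective F.val ?_
    rw [IntermediateField.adjoin_map, ← AlgHom.fieldRange_eq_map, IntermediateField.fieldRange_val,
      Set.image_singleton]
    rfl
  refine ⟨⟨gx, htr, ?_⟩, fun z hz => ?_⟩
  · rw [htop]
    exact Module.Finite.of_surjective
      (Algebra.linearMap (↥(⊤ : IntermediateField k F)) F) fun z => ⟨⟨z, trivial⟩, rfl⟩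
  · obtain ⟨c, hc⟩ := hK.2 (z : K) (hz.algHom F.val)
    exact ⟨c, Subtype.ext hc⟩

theorem aeval_gen (x : K) (p : Polynomial k) :
    ((Polynomial.aeval (⟨x, IntermediateField.mem_adjoin_simple_self k x⟩ :
      IntermediateField.adjoin k ({x} : Set K)) p : IntermediateField.adjoin k ({x} : Set K)) : K) =
      Polynomial.aeval x p :=
  (Polynomial.aeval_algHom_apply (IntermediateField.adjoin k ({x} : Set K)).val _ p).symm

/-- `k[x, y]` is the intersection of the rings `O_P[y]` over the finite places `P` of `k(x)`. -/
theorem adjoin_eq [IsAlgClosed k] (hK : FunFld.IsFunctionField k K) {x y : K} (hx : Transcendental k x) :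
    (Algebra.adjoin k ({x, y} : Set K) : Set K) =
      ⋂ (P : FunFld.Place k (IntermediateField.adjoin k ({x} : Set K)))
        (_ : P.1 ⟨x, IntermediateField.mem_adjoin_simple_self k x⟩ ≤ 1),
        (Subring.closure
          ((algebraMap (IntermediateField.adjoin k ({x} : Set K)) K '' (P.O : Set _)) ∪ {y}) :
          Set K) := by
  set F := IntermediateField.adjoin k ({x} : Set K)
  set gx : F := ⟨x, IntermediateField.mem_adjoin_simple_self k x⟩
  set M := Algebra.adjoin k ({x, y} : Set K)
  have hxM : x ∈ M := Algebra.subset_adjoin (by simp)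
  have hyM : y ∈ M := Algebra.subset_adjoin (by simp)
  refine Set.Subset.antisymm (Set.subset_iInter₂ fun P hP z hz => ?_) fun z hz => ?_
  · induction hz using Algebra.adjoin_induction with
    | mem a ha =>
      rcases ha with rfl | ha
      · exact Subring.subset_closure (Or.inl ⟨gx, hP, rfl⟩)
      · exact Subring.subset_closure (Or.inr ha)
    | algebraMap c => exact Subring.subset_closure (Or.inl ⟨algebraMap k F c, P.2.1 c, rfl⟩)
    | add a b _ _ ha hb => exact add_mem ha hb
    | mul a b _ _ ha hb => exact mul_mem ha hb
  simp only [Set.mem_iInter] at hz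
  let J : Ideal (Polynomial k) :=
    { carrier := {p | Polynomial.aeval x p * z ∈ M}
      add_mem' := fun {p q} hp hq => by
        simp only [Set.mem_ofPred_eq, map_add, add_mul]; exact add_mem hp hq
      zero_mem' := by simp
      smul_mem' := fun r p hp => by
        simp only [Set.mem_ofPred_eq, smul_eq_mul, map_mul, mul_assoc]
        refine mul_mem ?_ hp
        rw [Polynomial.aeval_def, Polynomial.eval₂_eq_sum]
        exact M.sum_mem fun n _ => mul_mem (M.algebraMap_mem _) (pow_mem hxM n) }
  have hJ : ∀ c : k, ∃ p ∈ J, p.eval c ≠ 0 := by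
    intro c
    have hF := isFunctionField_line hK hx
    have htr : Transcendental k (gx - algebraMap k F c) := by
      intro halg
      obtain ⟨d, hd⟩ := hF.2 _ halg
      refine hx (?_ : IsAlgebraic k x)
      have e : x = algebraMap k K (d + c) := by
        have := congrArg (Subtype.val : F → K) hd
        rw [map_add]
        change algebraMap k K d = x - algebraMap k K c at this
        rw [this, sub_add_cancel]
      rw [e]
      exact isAlgebraic_algebraMap _
    obtain ⟨P, hP⟩ := Existence.exists_zero hF htr
    have hlt : P.1 (gx - algebraMap k F c) < 1 := (Place.val_lt_one_iff P).mpr (Or.inr hP)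
    have hP1 : P.1 gx ≤ 1 := by
      have := P.1.map_add_le hlt.le (P.2.1 c)
      rwa [sub_add_cancel] at this
    have hval : ∀ p : Polynomial k, P.1 (Polynomial.aeval gx p) ≤ 1 ∧
        (P.1 (Polynomial.aeval gx p) = 1 ↔ p.eval c ≠ 0) := by
      intro p
      obtain ⟨q, hq⟩ := Polynomial.X_sub_C_dvd_sub_C_eval (a := c) (p := p)
      have hint : ∀ r : Polynomial k, P.1 (Polynomial.aeval gx r) ≤ 1 := fun r => by
        rw [Polynomial.aeval_eq_sum_range]
        refine P.1.map_sum_le fun n _ => ?_
        rw [Algebra.smul_def, map_mul, map_pow]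
        exact mul_le_one' (P.2.1 _) (pow_le_one' hP1 n)
      refine ⟨hint p, ?_⟩
      have e : Polynomial.aeval gx p =
          algebraMap k F (p.eval c) + (gx - algebraMap k F c) * Polynomial.aeval gx q := by
        rw [sub_eq_iff_eq_add] at hq
        conv_lhs => rw [hq]
        simp [add_comm]
      have hsmall : P.1 ((gx - algebraMap k F c) * Polynomial.aeval gx q) < 1 := by
        rw [map_mul]; exact (mul_le_of_le_one_right' (hint q)).trans_lt hlt
      constructor
      · intro h1 h0
        rw [e, h0, map_zero, zero_add] at h1
        exact hsmall.ne h1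
      · intro h0
        rw [e, P.1.map_add_eq_of_lt_left, Place.val_algebraMap P h0]
        rwa [Place.val_algebraMap P h0]
    have key : ∀ w ∈ Subring.closure ((algebraMap F K '' (P.O : Set F)) ∪ {y}),
        ∃ p : Polynomial k, p.eval c ≠ 0 ∧ Polynomial.aeval x p * w ∈ M := by
      intro w hw
      induction hw using Subring.closure_induction with
      | mem a ha =>
        rcases ha with ⟨b, hb, rfl⟩ | rfl
        · obtain ⟨r, s, hrs⟩ := (IntermediateField.mem_adjoin_simple_iff k (b : K)).mp b.2
          rcases eq_or_ne (b : K) 0 with hb0 | hb0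
          · exact ⟨1, by simp, by rw [show algebraMap F K b = (b : K) from rfl, hb0, mul_zero]; exact zero_mem M⟩
          have hm : ∀ r : Polynomial k, Polynomial.aeval x r ∈ M := fun r => by
            rw [Polynomial.aeval_def, Polynomial.eval₂_eq_sum]
            exact M.sum_mem fun n _ => mul_mem (M.algebraMap_mem _) (pow_mem hxM n)
          have hs0 : s ≠ 0 := fun h => by rw [hrs, h, map_zero, div_zero] at hb0; exact hb0 rfl
          have hne : ∀ {q : Polynomial k}, q ≠ 0 → Polynomial.aeval x q ≠ 0 := fun {q} hq h =>
            hx ⟨q, hq, h⟩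
          have hmul : (b : K) * Polynomial.aeval x s = Polynomial.aeval x r := by
            rw [hrs, div_mul_cancel₀ _ (hne hs0)]
          have hdesc : ∀ (n : ℕ) (r s : Polynomial k), s ≠ 0 → s.natDegree ≤ n →
              (b : K) * Polynomial.aeval x s = Polynomial.aeval x r →
              ∃ q : Polynomial k, q.eval c ≠ 0 ∧ Polynomial.aeval x q * algebraMap F K b ∈ M := by
            intro n
            induction n with
            | zero =>
              intro r s hs hdeg he
              obtain ⟨a, rfl⟩ := Polynomial.natDegree_eq_zero.mp (Nat.le_zero.mp hdeg)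
              refine ⟨Polynomial.C a, by simpa using hs, ?_⟩
              rw [mul_comm, show algebraMap F K b = (b : K) from rfl, he]
              exact hm r
            | succ n ih =>
              intro r s hs hdeg he
              by_cases hsc : s.eval c = 0
              swap
              · exact ⟨s, hsc, by rw [mul_comm, show algebraMap F K b = (b : K) from rfl, he]; exact hm r⟩
              have hrc : r.eval c = 0 := by
                by_contra hr0
                have hbe : b * Polynomial.aeval gx s = Polynomial.aeval gx r := Subtype.ext (by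
                  rw [IntermediateField.coe_mul, aeval_gen, aeval_gen]; exact he)
                have h2 := (hval r).2.mpr hr0
                rw [← hbe, map_mul] at h2
                have h3 : P.1 (Polynomial.aeval gx s) < 1 :=
                  lt_of_le_of_ne (hval s).1 fun h => (hval s).2.mp h hsc
                exact (((mul_le_of_le_one_left' hb).trans_lt h3)).ne h2
              obtain ⟨s', rfl⟩ := Polynomial.dvd_iff_isRoot.mpr hsc
              obtain ⟨r', rfl⟩ := Polynomial.dvd_iff_isRoot.mpr hrc
              have hs' : s' ≠ 0 := right_ne_zero_of_mul hs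
              rw [Polynomial.natDegree_mul (Polynomial.X_sub_C_ne_zero c) hs',
                Polynomial.natDegree_X_sub_C] at hdeg
              refine ih r' s' hs' (by omega) (mul_left_cancel₀ (hne (Polynomial.X_sub_C_ne_zero c)) ?_)
              rw [map_mul, map_mul] at he
              linear_combination he
          exact hdesc s.natDegree r s hs0 le_rfl hmul
        · exact ⟨1, by simp, by simpa using hyM⟩
      | zero => exact ⟨1, by simp, by simp⟩
      | one => exact ⟨1, by simp, by simp⟩
      | add a b _ _ ha hb =>
        obtain ⟨p, hp, hpa⟩ := ha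
        obtain ⟨q, hq, hqb⟩ := hb
        refine ⟨p * q, by simp [hp, hq], ?_⟩
        rw [map_mul, show Polynomial.aeval x p * Polynomial.aeval x q * (a + b) =
          Polynomial.aeval x q * (Polynomial.aeval x p * a) + Polynomial.aeval x p * (Polynomial.aeval x q * b) by ring]
        have hm : ∀ r : Polynomial k, Polynomial.aeval x r ∈ M := fun r => by
          rw [Polynomial.aeval_def, Polynomial.eval₂_eq_sum]
          exact M.sum_mem fun n _ => mul_mem (M.algebraMap_mem _) (pow_mem hxM n)
        exact add_mem (mul_mem (hm q) hpa) (mul_mem (hm p) hqb)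
      | neg a _ ha =>
        obtain ⟨p, hp, hpa⟩ := ha
        exact ⟨p, hp, by rw [mul_neg]; exact neg_mem hpa⟩
      | mul a b _ _ ha hb =>
        obtain ⟨p, hp, hpa⟩ := ha
        obtain ⟨q, hq, hqb⟩ := hb
        refine ⟨p * q, by simp [hp, hq], ?_⟩
        rw [map_mul, mul_mul_mul_comm]
        exact mul_mem hpa hqb
    obtain ⟨p, hp, hpz⟩ := key z (hz P hP1)
    exact ⟨p, hpz, hp⟩
  have h1 : (1 : Polynomial k) ∈ J := by
    obtain ⟨g, hg⟩ : ∃ g, J = Ideal.span {g} := (inferInstance : J.IsPrincipal).principal
    have hu : IsUnit g := by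
      by_contra hnu
      have hdeg : g.degree ≠ 0 := fun h => hnu (Polynomial.isUnit_iff_degree_eq_zero.mpr h)
      obtain ⟨c, hc⟩ := IsAlgClosed.exists_root g hdeg
      obtain ⟨p, hp, hp0⟩ := hJ c
      rw [hg, Ideal.mem_span_singleton] at hp
      obtain ⟨q, rfl⟩ := hp
      exact hp0 (by rw [Polynomial.eval_mul, hc.eq_zero, zero_mul])
    rw [hg, Ideal.mem_span_singleton]
    exact hu.dvd
  change Polynomial.aeval x (1 : Polynomial k) * z ∈ M at h1
  rw [map_one, one_mul] at h1
  exact h1

end Groth.Agent.Lib.FunFld.PlaneCurve.OverLine
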